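import Cfsg.Agent.OddHalf.D4.Spor.Sheet

/-!
# `C(w) = (2² × L).2`: the facts for the sheet D4

`Setup w v r z L`: `Z = {1, w, v, wv}` commutes with the simple group `L`, `r` permutes the involutions of `Z` and commutes
with `L`, `|C(w)| ≤ 8 |L|`, the only elements of `C(w)` commuting with `L` are those of `Z`; the 2-central involutions
of `L` are the conjugates of `z`, `z` is 2-central in `X` and `w z` is conjugate to `w`.
-/

set_option autoImplicit false

namespace Cfsg.Agent.KFacts.Co1D4.Abs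

open Subgroup Cfsg.Agent.OddHalf.D4.Spor
open scoped commutatorElement

variable {X : Type*} [Group X]

structure Setup (w v r z : X) (L : Subgroup X) : Prop where
  ww : w * w = 1
  vv : v * v = 1
  w1 : w ≠ 1
  v1 : v ≠ 1
  vw : v ≠ w
  comm : w * v = v * w
  rw : r * w * r⁻¹ = v
  rv : r * v * r⁻¹ = w * v
  Lw : ∀ l ∈ L, l * w = w * l
  Lv : ∀ l ∈ L, l * v = v * l
  Lr : ∀ l ∈ L, l * r = r * l
  simple : IsSimpleGroup L
  perf : ⁅L, L⁆ = L
  card : Nat.card (centralizer ({w} : Set X)) ≤ 8 * Nat.card L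
  zL : z ∈ L
  zz : z * z = 1
  z1 : z ≠ 1
  zc : Cen z
  zcL : Cen (⟨z, zL⟩ : L)
  zconj : ∀ t : L, t * t = 1 → t ≠ 1 → Cen t → ∃ g : L, g * t * g⁻¹ = ⟨z, zL⟩
  wz : ∃ k, k * w * k⁻¹ = w * z
  cent : ∀ g, g * w = w * g → (∀ l ∈ L, g * l = l * g) → g = 1 ∨ g = w ∨ g = v ∨ g = w * v

variable {w v r z : X} {L : Subgroup X}

/-- The four-group. -/
def four (ww : w * w = 1) (vv : v * v = 1) (comm : w * v = v * w) : Subgroup X where
  carrier := {g | g = 1 ∨ g = w ∨ g = v ∨ g = w * v}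
  one_mem' := Or.inl rfl
  mul_mem' := by
    have e1 : w * (w * v) = v := by rw [← mul_assoc, ww, one_mul]
    have e2 : v * w = w * v := comm.symm
    have e3 : v * (w * v) = w := by rw [← mul_assoc, ← comm, mul_assoc, vv, mul_one]
    have e4 : w * v * w = v := by rw [mul_assoc, ← comm, e1]
    have e5 : w * v * v = w := by rw [mul_assoc, vv, mul_one]
    have e6 : w * v * (w * v) = 1 := by rw [← mul_assoc, e4, vv]
    rintro a b (rfl | rfl | rfl | rfl) (rfl | rfl | rfl | rfl) <;>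
      simp only [Set.mem_ofPred_eq, one_mul, mul_one, e1, e2, e3, e4, e5, e6, ww, vv, true_or, or_true]
  inv_mem' := by
    have e1 : w⁻¹ = w := inv_eq_of_mul_eq_one_right ww
    have e2 : v⁻¹ = v := inv_eq_of_mul_eq_one_right vv
    rintro a (rfl | rfl | rfl | rfl)
    · exact Or.inl inv_one
    · exact Or.inr (Or.inl e1)
    · exact Or.inr (Or.inr (Or.inl e2))
    · refine Or.inr (Or.inr (Or.inr ?_))
      rw [mul_inv_rev, e1, e2, comm]

namespace Setup

variable (S : Setup w v r z L)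
include S

/-- The four-group. -/
def Z : Subgroup X := four S.ww S.vv S.comm

theorem mem_Z {g : X} : g ∈ S.Z ↔ g = 1 ∨ g = w ∨ g = v ∨ g = w * v := Iff.rfl

theorem w_mem : w ∈ S.Z := Or.inr (Or.inl rfl)
theorem v_mem : v ∈ S.Z := Or.inr (Or.inr (Or.inl rfl))
theorem wv_mem : w * v ∈ S.Z := Or.inr (Or.inr (Or.inr rfl))

theorem Z_comm : ∀ a ∈ S.Z, ∀ b ∈ S.Z, a * b = b * a := by
  have h := S.comm
  rintro a (rfl | rfl | rfl | rfl) b (rfl | rfl | rfl | rfl) <;>
    first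
      | rfl
      | simp only [one_mul, mul_one]
      | exact h
      | exact h.symm
      | (simp only [← mul_assoc, h]; try simp only [mul_assoc, h])

theorem cent_LZ : ∀ l ∈ L, ∀ a ∈ S.Z, l * a = a * l := by
  rintro l hl a (rfl | rfl | rfl | rfl)
  · rw [one_mul, mul_one]
  · exact S.Lw l hl
  · exact S.Lv l hl
  · rw [← mul_assoc, S.Lw l hl, mul_assoc, S.Lv l hl, mul_assoc]

theorem card_Z : Nat.card S.Z = 4 := by
  have hv : w * v ≠ v := fun h => S.w1 (mul_eq_right.mp h)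
  have hw : w * v ≠ w := fun h => S.v1 (mul_eq_left.mp h)
  have h1 : w * v ≠ 1 := fun h => S.vw (by
    have : v = w⁻¹ := (eq_inv_of_mul_eq_one_right h)
    rw [this]
    exact inv_eq_of_mul_eq_one_right S.ww)
  classical
  have h2 : (S.Z : Set X) = (({1, w, v, w * v} : Finset X) : Set X) := by
    ext g
    simp only [Finset.coe_insert, Finset.coe_singleton, Set.mem_insert_iff, Set.mem_singleton_iff]
    exact Iff.rfl
  have h3 : Nat.card S.Z = Set.ncard (S.Z : Set X) := rfl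
  rw [h3, h2, Set.ncard_coe_finset, Finset.card_insert_of_notMem, Finset.card_insert_of_notMem,
    Finset.card_insert_of_notMem, Finset.card_singleton]
  · simpa using hv.symm
  · simp only [Finset.mem_insert, Finset.mem_singleton, not_or]
    exact ⟨S.vw.symm, hw.symm⟩
  · simp only [Finset.mem_insert, Finset.mem_singleton, not_or]
    exact ⟨S.w1.symm, S.v1.symm, h1.symm⟩

/-- the centre of `L` is trivial -/
theorem eq_one_of_center {g : X} (hg : g ∈ L) (h : ∀ l ∈ L, g * l = l * g) : g = 1 := by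
  have := S.simple
  have hn : (center L).Normal := inferInstance
  rcases hn.eq_bot_or_eq_top with h1 | h1
  · have : (⟨g, hg⟩ : L) ∈ center L := mem_center_iff.mpr fun l => Subtype.ext (h l l.2).symm
    rw [h1, mem_bot] at this
    exact congrArg Subtype.val this
  · exfalso
    have h2 : ∀ a b : L, a * b = b * a := fun a b => by
      have : b ∈ center L := by rw [h1]; exact mem_top b
      exact mem_center_iff.mp this a
    have h3 : ⁅L, L⁆ = ⊥ := by
      rw [commutator_eq_bot_iff_le_centralizer]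
      intro a ha
      rw [mem_centralizer_iff]
      intro b hb
      exact congrArg Subtype.val (h2 ⟨b, hb⟩ ⟨a, ha⟩)
    rw [S.perf] at h3
    apply S.z1
    have := S.zL
    rw [h3, mem_bot] at this
    exact this

theorem inf_eq : ∀ g ∈ S.Z, g ∈ L → g = 1 := fun g h1 h2 =>
  S.eq_one_of_center h2 fun l hl => (S.cent_LZ l hl g h1).symm

/-- The product `Z L`. -/
def ZL : Subgroup X where
  carrier := {g | ∃ a ∈ S.Z, ∃ l ∈ L, g = a * l}
  one_mem' := ⟨1, S.Z.one_mem, 1, L.one_mem, (mul_one 1).symm⟩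
  mul_mem' := by
    rintro _ _ ⟨a, ha, l, hl, rfl⟩ ⟨b, hb, m, hm, rfl⟩
    refine ⟨a * b, S.Z.mul_mem ha hb, l * m, L.mul_mem hl hm, ?_⟩
    calc a * l * (b * m) = a * (l * b) * m := by group
      _ = a * (b * l) * m := by rw [S.cent_LZ l hl b hb]
      _ = a * b * (l * m) := by group
  inv_mem' := by
    rintro _ ⟨a, ha, l, hl, rfl⟩
    refine ⟨a⁻¹, S.Z.inv_mem ha, l⁻¹, L.inv_mem hl, ?_⟩
    rw [mul_inv_rev]
    exact S.cent_LZ _ (L.inv_mem hl) _ (S.Z.inv_mem ha)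

theorem mem_ZL {g : X} : g ∈ S.ZL ↔ ∃ a ∈ S.Z, ∃ l ∈ L, g = a * l := Iff.rfl

theorem L_le : L ≤ S.ZL := fun l hl => ⟨1, S.Z.one_mem, l, hl, (one_mul l).symm⟩

theorem Z_le : S.Z ≤ S.ZL := fun a ha => ⟨a, ha, 1, L.one_mem, (mul_one a).symm⟩

theorem ZL_le : S.ZL ≤ centralizer ({w} : Set X) := by
  rintro _ ⟨a, ha, l, hl, rfl⟩
  rw [mem_centralizer_singleton_iff]
  calc a * l * w = a * (l * w) := by group
    _ = a * w * l := by rw [S.Lw l hl]; group
    _ = w * a * l := by rw [S.Z_comm a ha w S.w_mem]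
    _ = w * (a * l) := by group

theorem card_ZL [Finite X] : Nat.card S.ZL = 4 * Nat.card L := by
  rw [← S.card_Z, ← Nat.card_prod]
  symm
  refine Nat.card_eq_of_bijective (fun p : S.Z × L => (⟨p.1 * p.2, p.1, p.1.2, p.2, p.2.2, rfl⟩ : S.ZL)) ⟨?_, ?_⟩
  · rintro ⟨a, l⟩ ⟨b, m⟩ h
    have h1 : (a : X) * l = b * m := congrArg Subtype.val h
    have h2 : (b : X)⁻¹ * a = m * (l : X)⁻¹ := by
      calc (b : X)⁻¹ * a = (b : X)⁻¹ * (a * l) * (l : X)⁻¹ := by group
        _ = m * (l : X)⁻¹ := by rw [h1]; group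
    have h3 : (b : X)⁻¹ * a = 1 := S.inf_eq _ (S.Z.mul_mem (S.Z.inv_mem b.2) a.2) (by
      rw [h2]; exact L.mul_mem m.2 (L.inv_mem l.2))
    have h4 : (b : X) = a := inv_mul_eq_one.mp h3
    have h5 : (l : X) = m := by
      rw [h4] at h1
      exact mul_left_cancel h1
    exact Prod.ext (Subtype.ext h4.symm) (Subtype.ext h5)
  · rintro ⟨g, a, ha, l, hl, rfl⟩
    exact ⟨(⟨a, ha⟩, ⟨l, hl⟩), rfl⟩

/-- `|C(w) : Z L| ≤ 2` -/
theorem index_cases [Finite X] : (S.ZL.subgroupOf (centralizer ({w} : Set X))).index = 1 ∨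
    (S.ZL.subgroupOf (centralizer ({w} : Set X))).index = 2 := by
  have h1 := (S.ZL.subgroupOf (centralizer ({w} : Set X))).index_mul_card
  have h2 : Nat.card (S.ZL.subgroupOf (centralizer ({w} : Set X))) = Nat.card S.ZL :=
    Nat.card_congr (subgroupOfEquivOfLe S.ZL_le).toEquiv
  rw [h2, S.card_ZL] at h1
  have h3 := S.card
  have h4 : 0 < Nat.card L := Nat.card_pos
  have h5 : 0 < Nat.card (centralizer ({w} : Set X)) := Nat.card_pos
  rw [← h1] at h3 h5
  generalize (S.ZL.subgroupOf (centralizer ({w} : Set X))).index = n at h3 h5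
  have h6 : n ≤ 2 := by
    by_contra h
    have : 3 * (4 * Nat.card L) ≤ n * (4 * Nat.card L) := Nat.mul_le_mul_right _ (by omega)
    omega
  have h7 : n ≠ 0 := by rintro rfl; omega
  omega

/-- membership in `Z L` of a product of elements of `C(w)` -/
theorem mul_mem_iff [Finite X] {a b : X} (ha : a * w = w * a) (hb : b * w = w * b) :
    a * b ∈ S.ZL ↔ (a ∈ S.ZL ↔ b ∈ S.ZL) := by
  have hC : ∀ c : X, c * w = w * c → c ∈ centralizer ({w} : Set X) := fun c h =>
    mem_centralizer_singleton_iff.mpr h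
  rcases S.index_cases with h | h
  · rw [index_eq_one] at h
    have h1 : ∀ c, c * w = w * c → c ∈ S.ZL := by
      intro c hc
      have : (⟨c, hC c hc⟩ : centralizer ({w} : Set X)) ∈ S.ZL.subgroupOf (centralizer ({w} : Set X)) := by
        rw [h]; exact mem_top _
      exact this
    have h2 := h1 a ha
    have h3 := h1 b hb
    exact ⟨fun _ => ⟨fun _ => h3, fun _ => h2⟩, fun _ => S.ZL.mul_mem h2 h3⟩
  · have h2 := mul_mem_iff_of_index_two h (a := ⟨a, hC a ha⟩) (b := ⟨b, hC b hb⟩)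
    exact h2

omit S in
theorem inv_w {a : X} (ha : a * w = w * a) : a⁻¹ * w = w * a⁻¹ := by
  calc a⁻¹ * w = a⁻¹ * (w * a) * a⁻¹ := by group
    _ = w * a⁻¹ := by rw [← ha]; group

omit S in
theorem mul_w {a b : X} (ha : a * w = w * a) (hb : b * w = w * b) : a * b * w = w * (a * b) := by
  rw [mul_assoc, hb, ← mul_assoc, ha, mul_assoc]

theorem inv_mem_iff {a : X} : a⁻¹ ∈ S.ZL ↔ a ∈ S.ZL := S.ZL.inv_mem_iff

/-- `Z L` is normal in `C(w)` -/
theorem conj_mem [Finite X] {a b : X} (ha : a * w = w * a) (hb : b ∈ S.ZL) : a * b * a⁻¹ ∈ S.ZL := by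
  have hbw : b * w = w * b := mem_centralizer_singleton_iff.mp (S.ZL_le hb)
  rw [S.mul_mem_iff (mul_w ha hbw) (inv_w ha), S.mul_mem_iff ha hbw, S.inv_mem_iff]
  tauto

/-- commutators in `C(w)` -/
theorem comm_mem [Finite X] {a b : X} (ha : a * w = w * a) (hb : b * w = w * b) : a * b * a⁻¹ * b⁻¹ ∈ S.ZL := by
  rw [S.mul_mem_iff (mul_w (mul_w ha hb) (inv_w ha)) (inv_w hb), S.mul_mem_iff (mul_w ha hb) (inv_w ha),
    S.mul_mem_iff ha hb, S.inv_mem_iff, S.inv_mem_iff]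
  tauto

/-- `[Z L, Z L] = L` -/
theorem comm_ZL : ⁅S.ZL, S.ZL⁆ = L := by
  apply le_antisymm
  · rw [commutator_le]
    rintro _ ⟨a, ha, l, hl, rfl⟩ _ ⟨b, hb, m, hm, rfl⟩
    have h1 := S.cent_LZ l hl b hb
    have h2 := S.cent_LZ m hm a ha
    have h3 := S.Z_comm a ha b hb
    have e : ⁅a * l, b * m⁆ = l * m * l⁻¹ * m⁻¹ := by
      have h4 : a * l * (b * m) = a * b * (l * m) := by
        calc a * l * (b * m) = a * (l * b) * m := by group
          _ = a * (b * l) * m := by rw [h1]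
          _ = a * b * (l * m) := by group
      have h5 : b * m * (a * l) = a * b * (m * l) := by
        calc b * m * (a * l) = b * (m * a) * l := by group
          _ = b * (a * m) * l := by rw [h2]
          _ = (b * a) * (m * l) := by group
          _ = a * b * (m * l) := by rw [h3]
      have h6 : l * m * (a * b) = a * b * (l * m) := S.cent_LZ _ (L.mul_mem hl hm) _ (S.Z.mul_mem ha hb)
      have h7 : m * l * (a * b) = a * b * (m * l) := S.cent_LZ _ (L.mul_mem hm hl) _ (S.Z.mul_mem ha hb)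
      rw [commutatorElement_def]
      calc a * l * (b * m) * (a * l)⁻¹ * (b * m)⁻¹ = a * l * (b * m) * (b * m * (a * l))⁻¹ := by group
        _ = a * b * (l * m) * (a * b * (m * l))⁻¹ := by rw [h4, h5]
        _ = l * m * (a * b) * (m * l * (a * b))⁻¹ := by rw [h6, h7]
        _ = l * m * l⁻¹ * m⁻¹ := by group
    rw [e]
    exact L.mul_mem (L.mul_mem (L.mul_mem hl hm) (L.inv_mem hl)) (L.inv_mem hm)
  · calc L = ⁅L, L⁆ := S.perf.symm
      _ ≤ ⁅S.ZL, S.ZL⁆ := commutator_mono S.L_le S.L_le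

/-- `L` is normal in `C(w)` -/
theorem conj_L [Finite X] {c l : X} (hc : c * w = w * c) (hl : l ∈ L) : c * l * c⁻¹ ∈ L := by
  have h1 : L ≤ L.comap (MulAut.conj c).toMonoidHom := by
    conv_lhs => rw [← S.comm_ZL]
    rw [commutator_le]
    intro a ha b hb
    show c * ⁅a, b⁆ * c⁻¹ ∈ L
    have e : c * ⁅a, b⁆ * c⁻¹ = ⁅c * a * c⁻¹, c * b * c⁻¹⁆ := by
      rw [commutatorElement_def, commutatorElement_def]; group
    rw [e, ← S.comm_ZL]
    exact commutator_mem_commutator (S.conj_mem hc ha) (S.conj_mem hc hb)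
  exact h1 hl

/-- a perfect subgroup of `C(w)` is contained in `L` -/
theorem le_of_perfect [Finite X] {P : Subgroup X} (hP : ⁅P, P⁆ = P) (hc : ∀ p ∈ P, p * w = w * p) : P ≤ L := by
  have h1 : P ≤ S.ZL := by
    conv_lhs => rw [← hP]
    rw [commutator_le]
    intro a ha b hb
    exact S.comm_mem (hc a ha) (hc b hb)
  calc P = ⁅P, P⁆ := hP.symm
    _ ≤ ⁅S.ZL, S.ZL⁆ := commutator_mono h1 h1
    _ = L := S.comm_ZL

/-- a normal subgroup of `C(w)` which does not contain `L` is contained in `Z` -/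
theorem le_Z [Finite X] {N : Subgroup X} (hle : ∀ n ∈ N, n * w = w * n)
    (hn : ∀ c, c * w = w * c → ∀ n ∈ N, c * n * c⁻¹ ∈ N) (hL : ¬ L ≤ N) : N ≤ S.Z := by
  have := S.simple
  have hbot : ∀ x ∈ N, x ∈ L → x = 1 := by
    have hnorm : (N.subgroupOf L).Normal := ⟨fun n hn' l => hn l (S.Lw l l.2) n hn'⟩
    rcases hnorm.eq_bot_or_eq_top with h | h
    · intro x hx hxL
      have : (⟨x, hxL⟩ : L) ∈ N.subgroupOf L := hx
      rw [h, mem_bot] at this
      exact congrArg Subtype.val this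
    · exact absurd (subgroupOf_eq_top.mp h) hL
  intro n hn'
  apply S.cent _ (hle n hn')
  intro l hl
  have h1 : n * (l * n⁻¹ * l⁻¹) ∈ N := N.mul_mem hn' (hn l (S.Lw l hl) n⁻¹ (N.inv_mem hn'))
  have h2 : n * l * n⁻¹ * l⁻¹ ∈ L := L.mul_mem (S.conj_L (hle n hn') hl) (L.inv_mem hl)
  have h3 : n * l * n⁻¹ * l⁻¹ = 1 := hbot _ (by
    have e : n * l * n⁻¹ * l⁻¹ = n * (l * n⁻¹ * l⁻¹) := by group
    rw [e]; exact h1) h2
  calc n * l = (n * l * n⁻¹ * l⁻¹) * l * n := by group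
    _ = l * n := by rw [h3, one_mul]

/-- `Bad w N` -/
theorem eq_Z [Finite X] {N : Subgroup X} (h : Bad w N) : N = S.Z := by
  have h1 : ¬ L ≤ N := fun hL => h.non z (hL S.zL) S.zz S.z1 S.zc
  have h2 := S.le_Z h.le h.norm h1
  apply eq_of_le_of_card_ge h2
  rw [S.card_Z]
  exact Nat.le_of_dvd Nat.card_pos h.four

/-- `O(C(w)) = 1` -/
theorem bal [Finite X] {I : Subgroup X} (hI : ∀ i ∈ I, i * w = w * i)
    (hn : ∀ c, c * w = w * c → ∀ i ∈ I, c * i * c⁻¹ ∈ I) (ho : Odd (Nat.card I)) : I = ⊥ := by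
  have key : ∀ i ∈ I, i * i = 1 → i = 1 := by
    intro i hi hii
    have h3 : orderOf i ∣ 2 := orderOf_dvd_of_pow_eq_one (by rw [pow_two]; exact hii)
    have h4 : orderOf i ∣ Nat.card I := by
      have := orderOf_dvd_natCard (⟨i, hi⟩ : I)
      rwa [Subgroup.orderOf_mk] at this
    have h5 : orderOf i ∣ 1 := by
      have := Nat.dvd_gcd h3 h4
      rwa [Nat.Coprime.gcd_eq_one (Nat.coprime_two_left.2 ho)] at this
    exact orderOf_eq_one_iff.1 (Nat.dvd_one.1 h5)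
  have h1 : I ≤ S.Z := S.le_Z hI hn fun hL => S.z1 (key z (hL S.zL) S.zz)
  rw [eq_bot_iff]
  intro i hi
  rw [mem_bot]
  apply key i hi
  rcases h1 hi with rfl | rfl | rfl | rfl
  · exact mul_one 1
  · exact S.ww
  · exact S.vv
  · calc w * v * (w * v) = w * (v * w) * v := by group
      _ = (w * w) * (v * v) := by rw [← S.comm]; group
      _ = 1 := by rw [S.ww, S.vv, one_mul]

theorem sig : Sig S.Z L where
  conj := by
    obtain ⟨k, hk⟩ := S.wz
    have hne : ((⟨z, S.zL⟩ : L) : X) ≠ 1 := S.z1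
    have hr : r * z = z * r := (S.Lr z S.zL).symm
    have hk2 : r * k * r⁻¹ * v * (r * k * r⁻¹)⁻¹ = v * z := by
      calc r * k * r⁻¹ * v * (r * k * r⁻¹)⁻¹ = r * k * (r⁻¹ * (r * w * r⁻¹) * r) * k⁻¹ * r⁻¹ := by rw [S.rw]; group
        _ = r * (k * w * k⁻¹) * r⁻¹ := by group
        _ = r * w * (z * r⁻¹) := by rw [hk]; group
        _ = r * w * (r⁻¹ * z) := by
          congr 1
          rw [eq_inv_mul_iff_mul_eq, ← mul_assoc, hr, mul_assoc, mul_inv_cancel, mul_one]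
        _ = (r * w * r⁻¹) * z := by group
        _ = v * z := by rw [S.rw]
    rintro a (rfl | rfl | rfl | rfl) - ha1
    · exact absurd rfl ha1
    · exact ⟨k, ⟨z, S.zL⟩, hne, hk, S.zcL⟩
    · exact ⟨r * k * r⁻¹, ⟨z, S.zL⟩, hne, hk2, S.zcL⟩
    · refine ⟨r * (r * k * r⁻¹) * r⁻¹, ⟨z, S.zL⟩, hne, ?_, S.zcL⟩
      show r * (r * k * r⁻¹) * r⁻¹ * (w * v) * (r * (r * k * r⁻¹) * r⁻¹)⁻¹ = w * v * z
      calc r * (r * k * r⁻¹) * r⁻¹ * (w * v) * (r * (r * k * r⁻¹) * r⁻¹)⁻¹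
          = r * (r * k * r⁻¹) * r⁻¹ * (r * v * r⁻¹) * (r * (r * k * r⁻¹) * r⁻¹)⁻¹ := by rw [S.rv]
        _ = r * (r * k * r⁻¹ * v * (r * k * r⁻¹)⁻¹) * r⁻¹ := by group
        _ = r * v * (z * r⁻¹) := by rw [hk2]; group
        _ = r * v * (r⁻¹ * z) := by
          congr 1
          rw [eq_inv_mul_iff_mul_eq, ← mul_assoc, hr, mul_assoc, mul_inv_cancel, mul_one]
        _ = (r * v * r⁻¹) * z := by group
        _ = w * v * z := by rw [S.rv]
  cen := by
    intro l hl hl1 hC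
    obtain ⟨g, hg⟩ := S.zconj l hl hl1 hC
    have h1 : (l : X) = (g : X)⁻¹ * z * (g : X)⁻¹⁻¹ := by
      have h2 : (g : X) * l * (g : X)⁻¹ = z := congrArg Subtype.val hg
      rw [← h2]; group
    rw [h1]
    obtain ⟨T, hT⟩ := S.zc
    refine ⟨(g : X)⁻¹ • T, ?_⟩
    intro s hs
    rw [Sylow.smul_def] at hs
    obtain ⟨t, ht, rfl⟩ := hs
    have h3 := hT t ht
    show (g : X)⁻¹ * t * (g : X)⁻¹⁻¹ * ((g : X)⁻¹ * z * (g : X)⁻¹⁻¹) =
      (g : X)⁻¹ * z * (g : X)⁻¹⁻¹ * ((g : X)⁻¹ * t * (g : X)⁻¹⁻¹)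
    calc (g : X)⁻¹ * t * (g : X)⁻¹⁻¹ * ((g : X)⁻¹ * z * (g : X)⁻¹⁻¹) = (g : X)⁻¹ * (t * z) * (g : X)⁻¹⁻¹ := by group
      _ = (g : X)⁻¹ * (z * t) * (g : X)⁻¹⁻¹ := by rw [h3]
      _ = _ := by group

theorem vfacts [Finite X] : VFacts S.Z L where
  comm := S.Z_comm
  perf := S.perf
  cent := S.cent_LZ
  max := fun _ hP hc => S.le_of_perfect hP fun p hp => hc p hp w S.w_mem
  kill := Or.inr S.sig

end Setup

end Cfsg.Agent.KFacts.Co1D4.Abs
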