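import Cfsg.Agent.KFacts.Co1.InCo1
import Cfsg.Agent.KFacts.SheetOf
import Cfsg.Agent.CoOneType.InvMain
import Cfsg.Agent.OddHalf.D4.Spor.LargeBase
import Cfsg.Agent.OddHalf.D4.Spor.OfBasic
import Cfsg.Agent.Co2Type.Mono

/-!
# Involutions of `Co₁`: classes, the centre of a Sylow 2-subgroup, `O(C(z)) = 1` for octads
-/

set_option autoImplicit false
open Cfsg
open scoped Pointwise

namespace Cfsg.Agent.KFacts.Co1D4.Base

open Cfsg.Agent.SporadicA.GolayBase Cfsg.Agent.SporadicA.Co0Mono Cfsg.Agent.SporadicA.Co1Simple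
open Cfsg.Agent.CoOneType.SignFacts (sup mem_sup notMem_sup wt sup_mem wt_cases wt_add_allOne
  sign_allOne_comm wt_eq_of_conj)
open Cfsg.Agent.CoOneType.ClosingFacts (mk mk_mul mk_inv exists_mk mk_eq_one mk_eq mk_add_allOne
  eq_zero_of_wt eq_allOne_of_wt)
open Cfsg.Agent.CoOneType.InvMain (b0 conj_sign_of_sq_one conj_b0_of_sq_neg)
open Cfsg.Agent.KFacts.Co1.InCo1
open Cfsg.Agent.Co2Type.Quad (Large)
open Cfsg.Agent.OddHalf.D4.Spor (Cen)

variable {o : golayCode}

theorem cen_octad (ho : wt o = 8) : Cen (mk (signCo0 o)) :=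
  OddHalf.D4.Spor.cen_of_index fun h => by
    have := odd_index ho
    exact Nat.not_even_iff_odd.mpr this (even_iff_two_dvd.mpr h)

/-- a Sylow 2-subgroup whose centre is `⟨z⟩` -/
theorem syl (ho : wt o = 8) : ∃ S : Sylow 2 Spor.Co1, ∀ y ∈ S, (∀ x ∈ S, x * y = y * x) →
    y = 1 ∨ y = mk (signCo0 o) := by
  have h := large ho
  obtain ⟨S, hS⟩ := SheetOf.exists_sylow _ (odd_index ho)
  have hQ2 : IsPGroup 2 (RCo1 o) := (isExtraspecial ho).1.1
  have hnorm : (S : Subgroup Spor.Co1) ≤ Subgroup.normalizer (RCo1 o : Set Spor.Co1) := by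
    intro s hs
    have hsz := Subgroup.mem_centralizer_singleton_iff.1 (hS hs)
    have hsz' := Subgroup.mem_centralizer_singleton_iff.1 (hS (S.inv_mem hs))
    rw [Subgroup.mem_normalizer_iff]
    intro r
    constructor
    · exact fun hr => h.conj_mem s hsz r hr
    · intro hr
      have h1 := h.conj_mem s⁻¹ hsz' _ hr
      have e : s⁻¹ * (s * r * s⁻¹) * s⁻¹⁻¹ = r := by group
      rwa [e] at h1
  have h2 : IsPGroup 2 ((S : Subgroup Spor.Co1) ⊔ RCo1 o : Subgroup Spor.Co1) :=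
    S.isPGroup'.to_sup_of_normal_right' hQ2 hnorm
  have h3 := S.is_maximal' h2 le_sup_left
  have hQS : RCo1 o ≤ S := (le_sup_right : RCo1 o ≤ (S : Subgroup Spor.Co1) ⊔ RCo1 o).trans h3.le
  refine ⟨S, ?_⟩
  intro y _ hy
  have hyz := (hy _ (hQS h.z_mem)).symm
  have hyQ : ∀ x ∈ RCo1 o, y * x = x * y := fun x hx => (hy x (hQS hx)).symm
  exact h.cent y (h.self y hyz hyQ) hyQ

/-- `O(C(z)) = 1` for a large subgroup `Q` of `C(z)` -/
theorem odd_eq_bot_large {K : Type*} [Group K] {Q : Subgroup K} {z : K} (h : Large Q z)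
    (I : Subgroup K) (h1 : ∀ i ∈ I, i * z = z * i)
    (h2 : ∀ c : K, c * z = z * c → ∀ i ∈ I, c * i * c⁻¹ ∈ I) (ho : Odd (Nat.card ↥I)) : I = ⊥ := by
  have hpow : ∀ i ∈ I, i * i = 1 → i = 1 := by
    intro i hi hii
    have h3 : orderOf i ∣ 2 := orderOf_dvd_of_pow_eq_one (by rw [pow_two]; exact hii)
    have h4 : orderOf i ∣ Nat.card ↥I := by
      have := orderOf_dvd_natCard (⟨i, hi⟩ : ↥I)
      rwa [Subgroup.orderOf_mk] at this
    have h5 : orderOf i ∣ 1 := by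
      have := Nat.dvd_gcd h3 h4
      rwa [Nat.Coprime.gcd_eq_one (Nat.coprime_two_left.2 ho)] at this
    exact orderOf_eq_one_iff.1 (Nat.dvd_one.1 h5)
  -- `I ∩ Q = 1`
  have hIQ : ∀ i ∈ I, i ∈ Q → i = 1 := by
    intro i hi hiQ
    have h4 : (i * i) * (i * i) = 1 := by
      rcases h.sq i hiQ with h | h
      · rw [h, one_mul]
      · rw [h, ‹Large Q z›.z_sq]
    have h5 := hpow _ (I.mul_mem hi hi) h4
    exact hpow i hi h5
  rw [eq_bot_iff]
  intro i hi
  rw [Subgroup.mem_bot]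
  have h3 : ∀ x ∈ Q, i * x = x * i := by
    intro x hx
    have hc : i * x * i⁻¹ * x⁻¹ = 1 := by
      apply hIQ
      · have h4 := h2 x (h.comm_z x hx) i⁻¹ (I.inv_mem hi)
        have h5 : i * x * i⁻¹ * x⁻¹ = i * (x * i⁻¹ * x⁻¹) := by group
        rw [h5]
        exact I.mul_mem hi h4
      · exact Q.mul_mem (h.conj_mem i (h1 i hi) x hx) (Q.inv_mem hx)
    calc i * x = (i * x * i⁻¹ * x⁻¹) * x * i := by group
      _ = x * i := by rw [hc, one_mul]
  rcases h.cent i (h.self i (h1 i hi) h3) h3 with e | e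
  · exact e
  · exact hpow i hi (by rw [e, h.z_sq])

/-- the classes of involutions -/
theorem cases (k : Spor.Co1) (hk : k * k = 1) (hk1 : k ≠ 1) :
    (∃ (g : Spor.Co1) (c : golayCode), wt c = 8 ∧ g * mk (signCo0 c) * g⁻¹ = k) ∨
    (∃ (g : Spor.Co1) (c : golayCode), wt c = 12 ∧ g * mk (signCo0 c) * g⁻¹ = k) ∨
    ∃ g : Spor.Co1, g * mk b0 * g⁻¹ = k := by
  obtain ⟨t, rfl⟩ := exists_mk k
  rw [← mk_mul, mk_eq_one] at hk
  rcases hk with hk | hk
  · obtain ⟨g, c, hg⟩ := conj_sign_of_sq_one t hk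
    have h2 : (mk g)⁻¹ * mk (signCo0 c) * (mk g)⁻¹⁻¹ = mk t := by
      rw [← hg]
      show (mk g)⁻¹ * (mk g * mk t * (mk g)⁻¹) * (mk g)⁻¹⁻¹ = mk t
      group
    rcases wt_cases c with h | h | h | h | h
    · exfalso
      apply hk1
      rw [← h2, eq_zero_of_wt h, signCo0_zero]
      show (mk g)⁻¹ * 1 * (mk g)⁻¹⁻¹ = 1
      group
    · exact Or.inl ⟨_, c, h, h2⟩
    · exact Or.inr (Or.inl ⟨_, c, h, h2⟩)
    · refine Or.inl ⟨_, c + allOne, ?_, by rw [mk_add_allOne]; exact h2⟩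
      have := wt_add_allOne c
      omega
    · exfalso
      apply hk1
      have h3 : mk (signCo0 allOne) = 1 := (mk_eq_one _).2 (Or.inr rfl)
      rw [← h2, eq_allOne_of_wt h, h3]
      group
  · right; right
    obtain ⟨g, hg⟩ := conj_b0_of_sq_neg t hk
    refine ⟨(mk g)⁻¹, ?_⟩
    rw [← hg]
    show (mk g)⁻¹ * (mk g * mk t * (mk g)⁻¹) * (mk g)⁻¹⁻¹ = mk t
    group

/-- The trace (times 8) of a sign change. -/
theorem tr8_sign (c : golayCode) : Co2Type.Mono.tr8 (signCo0 c) = 8 * (24 - 2 * (wt c : ℤ)) := by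
  have h1 : ∀ i : GolayPt, ((signCo0 c • SporadicStructure.Co0Base.e8 i : leechLattice) : GolayPt → ℤ) i =
      8 - (if i ∈ sup c then 16 else 0) := by
    intro i
    rw [signCo0_smul, signMap_apply, SporadicStructure.Co0Base.e8_coe]
    by_cases hi : i ∈ sup c
    · rw [(mem_sup c i).1 hi, sgn_one, if_pos hi]; simp
    · rw [(notMem_sup c i).1 hi, sgn_zero, if_neg hi]; simp
  unfold Co2Type.Mono.tr8
  rw [Finset.sum_congr rfl fun i _ => h1 i, Finset.sum_sub_distrib, Finset.sum_const, ← Finset.sum_filter,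
    Finset.sum_const, Finset.card_univ]
  have h2 : (Finset.univ.filter fun i => i ∈ sup c) = sup c := by ext i; simp
  rw [h2]
  have h3 : Fintype.card GolayPt = 24 := by
    rw [Fintype.card_option, ZMod.card]
  rw [h3]
  unfold wt
  simp only [nsmul_eq_mul]
  push_cast
  ring

/-- an element of square 1 and trace `-8` is 2-central modulo `±1` -/
theorem cen_of_trace {t : Co0} (ht : t * t = 1) (htr : Co2Type.Mono.tr8 t = -64) : Cen (mk t) := by
  obtain ⟨g, c, hg⟩ := conj_sign_of_sq_one t ht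
  have h1 : Co2Type.Mono.tr8 (signCo0 c) = -64 := by rw [← hg, Co2Type.Mono.tr8_conj, htr]
  rw [tr8_sign] at h1
  have h2 : wt c = 16 := by omega
  have h3 := wt_add_allOne c
  have h4 : Cen (mk (signCo0 c)) := by
    rw [← mk_add_allOne c]
    exact cen_octad (by omega)
  rw [← hg] at h4
  exact OddHalf.D4.Spor.LargeBase.cen_of_conj (k := mk g) h4

end Cfsg.Agent.KFacts.Co1D4.Base
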