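import Mathlib

/-!
# Centralisers in a double cover (helper927, text of helper249)

`f : G → Q` onto with kernel `{1, z}`, `z` central. Abstract form of the two lemmas used for `Co0 → Co1`.
-/

set_option autoImplicit false

namespace Cfsg.Agent.KFacts.Co1D4.CentAbs

open Subgroup
open scoped commutatorElement

variable {G Q : Type*} [Group G] [Group Q]

/-- `f` is onto with kernel `{1, z}`, `z` central of order 2. -/
structure Dbl (f : G →* Q) (z : G) : Prop where
  surj : Function.Surjective f
  cen : ∀ g, g * z = z * g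
  sq : z * z = 1
  ne : z ≠ 1
  ker : ∀ g, f g = 1 ↔ g = 1 ∨ g = z

variable {f : G →* Q} {z : G}

theorem Dbl.eq_iff (h : Dbl f z) (a b : G) : f a = f b ↔ a = b ∨ a = b * z := by
  have h1 : f a = f b ↔ f (b⁻¹ * a) = 1 := by
    rw [map_mul, map_inv, inv_mul_eq_one, eq_comm]
  rw [h1, h.ker, inv_mul_eq_one, inv_mul_eq_iff_eq_mul, eq_comm]

theorem Dbl.map_z (h : Dbl f z) : f z = 1 := (h.ker z).2 (Or.inr rfl)

theorem Dbl.comm_cases (h : Dbl f z) {a b : G} (hab : f a * f b = f b * f a) :
    a * b = b * a ∨ a * b = b * a * z := by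
  rw [← map_mul, ← map_mul] at hab
  exact (h.eq_iff _ _).1 hab

theorem card_cent_le [Finite G] (h : Dbl f z) (k : G) :
    Nat.card (centralizer ({f k} : Set Q)) ≤ Nat.card (centralizer ({k} : Set G)) := by
  classical
  have hQ : Finite Q := Finite.of_surjective f h.surj
  obtain ⟨s, hs⟩ := h.surj.hasRightInverse
  have hmem : ∀ c : centralizer ({f k} : Set Q), (c : Q) * f k = f k * c := fun c =>
    mem_centralizer_singleton_iff.1 c.2
  have hcase : ∀ c : centralizer ({f k} : Set Q), s c * k = k * s c ∨ s c * k = k * s c * z := by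
    intro c
    apply h.comm_cases
    rw [hs]
    exact hmem c
  by_cases hu : ∃ u : G, u * k = k * u * z
  · obtain ⟨u, hu⟩ := hu
    let zz : Bool → G := fun b => cond b z 1
    have zcomm : ∀ b g, zz b * g = g * zz b := by
      intro b g
      cases b
      · simp [zz]
      · exact (h.cen g).symm
    have zinj : ∀ b b', zz b = zz b' → b = b' := by
      intro b b' hb
      cases b <;> cases b'
      · rfl
      · exact absurd hb.symm h.ne
      · exact absurd hb h.ne
      · rfl
    have fz : ∀ b, f (zz b) = 1 := by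
      intro b
      cases b
      · exact map_one f
      · exact h.map_z
    have hinv : u⁻¹ * (k * z) = k * u⁻¹ := by
      rw [inv_mul_eq_iff_eq_mul, ← mul_assoc]
      have e : u * k * u⁻¹ = k * z := by
        rw [hu, mul_assoc k u z, h.cen u]
        group
      rw [e]
    let F : centralizer ({f k} : Set Q) × Bool → centralizer ({k} : Set G) × Bool := fun p =>
      if hp : s p.1 * k = k * s p.1 then
        (⟨s p.1 * zz p.2, mem_centralizer_singleton_iff.2 (by rw [mul_assoc, zcomm, ← mul_assoc, hp, mul_assoc])⟩,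
          false)
      else (⟨u⁻¹ * s p.1 * zz p.2, mem_centralizer_singleton_iff.2 (by
          have h1 := (hcase p.1).resolve_left hp
          rw [mul_assoc _ (zz p.2), zcomm, ← mul_assoc, ← mul_assoc, mul_assoc u⁻¹, h1, mul_assoc k,
            h.cen (s _), ← mul_assoc k, ← mul_assoc u⁻¹, hinv, ← mul_assoc k])⟩, true)
    have hF : Function.Injective F := by
      rintro ⟨c, b⟩ ⟨c', b'⟩ hcc
      by_cases hc : s c * k = k * s c <;> by_cases hc' : s c' * k = k * s c'
      · simp only [F, dif_pos hc, dif_pos hc'] at hcc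
        have h1 : s c * zz b = s c' * zz b' := congrArg (fun q => (q.1 : G)) hcc
        have h2 := congrArg f h1
        rw [map_mul, map_mul, fz, fz, mul_one, mul_one, hs, hs] at h2
        have h3 : c = c' := Subtype.ext h2
        subst h3
        rw [zinj b b' (mul_left_cancel h1)]
      · simp only [F, dif_pos hc, dif_neg hc'] at hcc
        exact absurd (congrArg Prod.snd hcc) (by simp)
      · simp only [F, dif_neg hc, dif_pos hc'] at hcc
        exact absurd (congrArg Prod.snd hcc) (by simp)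
      · simp only [F, dif_neg hc, dif_neg hc'] at hcc
        have h1 : u⁻¹ * s c * zz b = u⁻¹ * s c' * zz b' := congrArg (fun q => (q.1 : G)) hcc
        rw [mul_assoc, mul_assoc] at h1
        have h1' := mul_left_cancel h1
        have h2 := congrArg f h1'
        rw [map_mul, map_mul, fz, fz, mul_one, mul_one, hs, hs] at h2
        have h3 : c = c' := Subtype.ext h2
        subst h3
        rw [zinj b b' (mul_left_cancel h1')]
    have h1 := Nat.card_le_card_of_injective F hF
    rw [Nat.card_prod, Nat.card_prod] at h1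
    exact Nat.le_of_mul_le_mul_right h1 Nat.card_pos
  · refine Nat.card_le_card_of_injective
      (fun c => (⟨s c, mem_centralizer_singleton_iff.2 ((hcase c).resolve_right fun h1 => hu ⟨_, h1⟩)⟩ :
        centralizer ({k} : Set G))) ?_
    intro c c' hcc
    have h1 : s c = s c' := congrArg (fun q : centralizer ({k} : Set G) => (q : G)) hcc
    apply Subtype.ext
    rw [← hs c, ← hs c', h1]

theorem Dbl.comm_left (h : Dbl f z) (p q : G) : p * z * q * (p * z)⁻¹ * q⁻¹ = p * q * p⁻¹ * q⁻¹ := by
  have h1 : p * z * q * (p * z)⁻¹ * q⁻¹ = p * (z * q) * z⁻¹ * p⁻¹ * q⁻¹ := by group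
  rw [h1, ← h.cen q]
  group

theorem Dbl.comm_right (h : Dbl f z) (p q : G) : p * (q * z) * p⁻¹ * (q * z)⁻¹ = p * q * p⁻¹ * q⁻¹ := by
  have h1 : p * (q * z) * p⁻¹ * (q * z)⁻¹ = p * q * (z * p⁻¹) * z⁻¹ * q⁻¹ := by group
  rw [h1, ← h.cen p⁻¹]
  group

/-- If `f c` centralises the perfect group `L`, `c` centralises its preimage. -/
theorem lift_comm (h : Dbl f z) {L : Subgroup Q} (hL : ⁅L, L⁆ = L) {c : G} (hc : ∀ l ∈ L, f c * l = l * f c)
    {m : G} (hm : f m ∈ L) : c * m = m * c := by
  have key : L ≤ (centralizer ({c} : Set G)).map f := by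
    rw [← hL]
    rw [commutator_le]
    intro p hp q hq
    obtain ⟨p, rfl⟩ := h.surj p
    obtain ⟨q, rfl⟩ := h.surj q
    refine ⟨⁅p, q⁆, ?_, map_commutatorElement f p q⟩
    show ⁅p, q⁆ ∈ centralizer ({c} : Set G)
    rw [mem_centralizer_singleton_iff, commutatorElement_def]
    have hp1 : c * p = p * c ∨ c * p = p * c * z := h.comm_cases (hc _ hp)
    have hq1 : c * q = q * c ∨ c * q = q * c * z := h.comm_cases (hc _ hq)
    -- `c p c⁻¹ = p` or `p z`
    have hp2 : c * p * c⁻¹ = p ∨ c * p * c⁻¹ = p * z := by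
      rcases hp1 with h1 | h1
      · left; rw [h1]; group
      · right; rw [h1, mul_assoc p, h.cen c]; group
    have hq2 : c * q * c⁻¹ = q ∨ c * q * c⁻¹ = q * z := by
      rcases hq1 with h1 | h1
      · left; rw [h1]; group
      · right; rw [h1, mul_assoc q, h.cen c]; group
    have e : c * (p * q * p⁻¹ * q⁻¹) * c⁻¹ =
        (c * p * c⁻¹) * (c * q * c⁻¹) * (c * p * c⁻¹)⁻¹ * (c * q * c⁻¹)⁻¹ := by group
    have e2 : c * (p * q * p⁻¹ * q⁻¹) * c⁻¹ = p * q * p⁻¹ * q⁻¹ := by
      rw [e]
      rcases hp2 with h1 | h1 <;> rcases hq2 with h2 | h2 <;> rw [h1, h2]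
      · exact h.comm_right p q
      · exact h.comm_left p q
      · rw [h.comm_left p (q * z)]
        exact h.comm_right p q
    rw [mul_inv_eq_iff_eq_mul] at e2
    exact e2.symm
  obtain ⟨m', hm', hmm⟩ := key hm
  have h1 : c * m' = m' * c := (mem_centralizer_singleton_iff.1 hm').symm
  rcases (h.eq_iff m m').1 hmm.symm with h2 | h2
  · rw [h2, h1]
  · rw [h2, ← mul_assoc, h1, mul_assoc, h.cen c, ← mul_assoc]

/-- the elements with a lift commuting with `k` -/
theorem core [Finite G] (h : Dbl f z) {k u : G} {L : Subgroup Q} (hk : k * k = z) (hu : k * u = z * (u * k))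
    (hL : ⁅L, L⁆ = L) (hLk : ∀ l ∈ L, l * f k = f k * l) (hLu : ∀ l ∈ L, l * f u = f u * l)
    (hc : ∀ g ∈ L, (∀ l ∈ L, g * l = l * g) → g = 1)
    (hcard : Nat.card (centralizer ({f k} : Set Q)) ≤ 8 * Nat.card L)
    (hle : ∀ a : G, (∀ x, x * k = k * x → x * a = a * x) → a = 1 ∨ a = z ∨ a = k ∨ a = z * k)
    {a : G} (hak : a * k = k * a) (haL : ∀ l ∈ L, f a * l = l * f a) : f a = 1 ∨ f a = f k := by
  classical
  have hQ : Finite Q := Finite.of_surjective f h.surj
  by_contra hcon
  rw [not_or] at hcon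
  obtain ⟨ha1, haw⟩ := hcon
  have zc : ∀ g, z * g = g * z := fun g => (h.cen g).symm
  have hanti : ∀ x : G, k * x = z * (x * k) → x * k ≠ k * x := by
    intro x hx hx2
    rw [hx2] at hx
    have h1 : 1 * (k * x) = z * (k * x) := by rw [one_mul]; exact hx
    exact h.ne (mul_right_cancel h1).symm
  have hww : f k * f k = 1 := by rw [← map_mul, hk, h.map_z]
  have hw1 : f k ≠ 1 := by
    intro h1
    rcases (h.ker k).1 h1 with h2 | h2
    · rw [h2, one_mul] at hk; exact h.ne hk.symm
    · rw [h2, h.sq] at hk; exact h.ne hk.symm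
  have hvw : f u * f k = f k * f u := by
    rw [← map_mul, ← map_mul, hu, map_mul f z, h.map_z, one_mul]
  let D : Subgroup Q := centralizer ({f k} : Set Q) ⊓ centralizer (L : Set Q)
  have memD : ∀ x : Q, x ∈ D ↔ x * f k = f k * x ∧ ∀ l ∈ L, l * x = x * l := by
    intro x
    rw [Subgroup.mem_inf, mem_centralizer_singleton_iff, mem_centralizer_iff]
    rfl
  let E : Subgroup Q := D ⊓ (centralizer ({k} : Set G)).map f
  have hvD : f u ∈ D := (memD _).2 ⟨hvw, hLu⟩
  have hvE : f u ∉ E := by
    rintro ⟨_, x, hx, hxu⟩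
    have hx1 : x * k = k * x := mem_centralizer_singleton_iff.1 hx
    rcases (h.eq_iff u x).1 hxu.symm with h2 | h2
    · rw [← h2] at hx1
      exact hanti u hu hx1
    · apply hanti u hu
      rw [h2, mul_assoc, zc, ← mul_assoc, hx1, mul_assoc]
  have hEw : f k ∈ E := ⟨(memD _).2 ⟨rfl, hLk⟩, k, mem_centralizer_singleton_iff.2 rfl, rfl⟩
  have hEa : f a ∈ E := ⟨(memD _).2 ⟨by rw [← map_mul, ← map_mul, hak], fun l hl => (haL l hl).symm⟩,
    a, mem_centralizer_singleton_iff.2 hak, rfl⟩
  -- `2 |E| ≤ |D|`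
  have hED : Nat.card E * 2 ≤ Nat.card D := by
    have hinj : Function.Injective (fun p : E × Bool =>
        (⟨(p.1 : Q) * cond p.2 (f u) 1, D.mul_mem p.1.2.1 (by cases p.2; exacts [D.one_mem, hvD])⟩ : D)) := by
      rintro ⟨e, b⟩ ⟨e', b'⟩ hee
      have h1 : (e : Q) * cond b (f u) 1 = (e' : Q) * cond b' (f u) 1 := congrArg (fun q : D => (q : Q)) hee
      cases b <;> cases b'
      · have h2 : (e : Q) = e' := by simpa using h1
        rw [Subtype.ext h2]
      · exfalso
        apply hvE
        have h2 : f u = (e' : Q)⁻¹ * e := by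
          rw [eq_inv_mul_iff_mul_eq]
          simpa using h1.symm
        rw [h2]
        exact E.mul_mem (E.inv_mem e'.2) e.2
      · exfalso
        apply hvE
        have h2 : f u = (e : Q)⁻¹ * e' := by
          rw [eq_inv_mul_iff_mul_eq]
          simpa using h1
        rw [h2]
        exact E.mul_mem (E.inv_mem e.2) e'.2
      · have h2 : (e : Q) = e' := mul_right_cancel h1
        rw [Subtype.ext h2]
    have h1 := Nat.card_le_card_of_injective _ hinj
    rwa [Nat.card_prod, show Nat.card Bool = 2 by simp] at h1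
  -- `D × L → C(w)` is injective
  let Ψ : D × L → centralizer ({f k} : Set Q) := fun p =>
    ⟨p.1 * p.2, (centralizer ({f k} : Set Q)).mul_mem p.1.2.1 (mem_centralizer_singleton_iff.2 (hLk _ p.2.2))⟩
  have hΨ : Function.Injective Ψ := by
    rintro ⟨d, l⟩ ⟨d', l'⟩ hdl
    have h1 : (d : Q) * l = d' * l' := congrArg (fun q : centralizer ({f k} : Set Q) => (q : Q)) hdl
    have h2 : (d' : Q)⁻¹ * d = l' * (l : Q)⁻¹ := by
      rw [inv_mul_eq_iff_eq_mul, ← mul_assoc, eq_mul_inv_iff_mul_eq]
      exact h1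
    have h3 : (d' : Q)⁻¹ * d ∈ D := D.mul_mem (D.inv_mem d'.2) d.2
    have h4 : (d' : Q)⁻¹ * d ∈ L := by rw [h2]; exact L.mul_mem l'.2 (L.inv_mem l.2)
    have h5 := hc _ h4 (fun l hl => (((memD _).1 h3).2 l hl).symm)
    have h6 : (d : Q) = d' := by
      rw [inv_mul_eq_one] at h5
      exact h5.symm
    have h7 : (l : Q) = l' := by
      rw [h6] at h1
      exact mul_left_cancel h1
    rw [Prod.mk.injEq]
    exact ⟨Subtype.ext h6, Subtype.ext h7⟩
  have hcDL := Nat.card_le_card_of_injective Ψ hΨ
  rw [Nat.card_prod] at hcDL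
  have hLpos : 0 < Nat.card L := Nat.card_pos
  have hD8 : Nat.card D ≤ 8 := Nat.le_of_mul_le_mul_right (hcDL.trans hcard) hLpos
  have hE4 : Nat.card E ≤ 4 := by omega
  -- the four elements
  have hwa1 : f k * f a ≠ 1 := by
    intro h1
    apply haw
    have h2 : f k * f a = f k * f k := by rw [h1, hww]
    exact mul_left_cancel h2
  have hwa2 : f k * f a ≠ f k := fun h1 => ha1 (mul_left_cancel (h1.trans (mul_one _).symm))
  have hwa3 : f k * f a ≠ f a := fun h1 => hw1 (mul_right_cancel (h1.trans (one_mul _).symm))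
  have hEall : ∀ e ∈ E, e = 1 ∨ e = f k ∨ e = f a ∨ e = f k * f a := by
    intro e he
    by_contra hne
    simp only [not_or] at hne
    obtain ⟨n1, n2, n3, n4⟩ := hne
    let S : Finset Q := {1, f k, f a, f k * f a, e}
    have hS : S.card = 5 := by
      simp only [S]
      rw [Finset.card_insert_of_notMem, Finset.card_insert_of_notMem, Finset.card_insert_of_notMem,
        Finset.card_insert_of_notMem, Finset.card_singleton]
      · simp only [Finset.mem_insert, Finset.mem_singleton, not_or]; exact Ne.symm n4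
      · simp only [Finset.mem_insert, Finset.mem_singleton, not_or]; exact ⟨Ne.symm hwa3, Ne.symm n3⟩
      · simp only [Finset.mem_insert, Finset.mem_singleton, not_or]; exact ⟨Ne.symm haw, Ne.symm hwa2, Ne.symm n2⟩
      · simp only [Finset.mem_insert, Finset.mem_singleton, not_or]; exact ⟨Ne.symm hw1, Ne.symm ha1, Ne.symm hwa1, Ne.symm n1⟩
    have hsub : ∀ x : S, (x : Q) ∈ E := by
      rintro ⟨x, hx⟩
      simp only [S, Finset.mem_insert, Finset.mem_singleton] at hx
      rcases hx with rfl | rfl | rfl | rfl | rfl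
      · exact E.one_mem
      · exact hEw
      · exact hEa
      · exact E.mul_mem hEw hEa
      · exact he
    have h1 : Nat.card S ≤ Nat.card E := Nat.card_le_card_of_injective (fun x : S => (⟨x, hsub x⟩ : E))
      (fun x y hxy => Subtype.ext (congrArg (fun q : E => (q : Q)) hxy))
    rw [Nat.card_eq_fintype_card, Fintype.card_coe, hS] at h1
    omega
  have hE4' : 4 ≤ Nat.card E := by
    let S : Finset Q := {1, f k, f a, f k * f a}
    have hS : S.card = 4 := by
      simp only [S]
      rw [Finset.card_insert_of_notMem, Finset.card_insert_of_notMem, Finset.card_insert_of_notMem,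
        Finset.card_singleton]
      · simp only [Finset.mem_insert, Finset.mem_singleton, not_or]; exact Ne.symm hwa3
      · simp only [Finset.mem_insert, Finset.mem_singleton, not_or]; exact ⟨Ne.symm haw, Ne.symm hwa2⟩
      · simp only [Finset.mem_insert, Finset.mem_singleton, not_or]; exact ⟨Ne.symm hw1, Ne.symm ha1, Ne.symm hwa1⟩
    have hsub : ∀ x : S, (x : Q) ∈ E := by
      rintro ⟨x, hx⟩
      simp only [S, Finset.mem_insert, Finset.mem_singleton] at hx
      rcases hx with rfl | rfl | rfl | rfl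
      · exact E.one_mem
      · exact hEw
      · exact hEa
      · exact E.mul_mem hEw hEa
    have h1 : Nat.card S ≤ Nat.card E := Nat.card_le_card_of_injective (fun x : S => (⟨x, hsub x⟩ : E))
      (fun x y hxy => Subtype.ext (congrArg (fun q : E => (q : Q)) hxy))
    rwa [Nat.card_eq_fintype_card, Fintype.card_coe, hS] at h1
  have hD8' : Nat.card D = 8 := by omega
  have hΨs : Function.Surjective Ψ := by
    have h1 : Nat.card (D × L) = Nat.card (centralizer ({f k} : Set Q)) := by
      apply le_antisymm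
      · rw [Nat.card_prod]; exact hcDL
      · rw [Nat.card_prod, hD8']; exact hcard
    exact ((Nat.bijective_iff_injective_and_card Ψ).2 ⟨hΨ, h1⟩).2
  -- every element commuting with `k` commutes with `a`
  have hLe : ∀ y : G, y * k = k * y → y * a = a * y := by
    intro y hy
    obtain ⟨⟨d, l⟩, hdl⟩ := hΨs ⟨f y, mem_centralizer_singleton_iff.2 (by rw [← map_mul, ← map_mul, hy])⟩
    have h1 : (d : Q) * l = f y := congrArg (fun q : centralizer ({f k} : Set Q) => (q : Q)) hdl
    obtain ⟨l', hl'⟩ := h.surj (l : Q)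
    have hl'L : f l' ∈ L := by rw [hl']; exact l.2
    have e1 : k * l' = l' * k := lift_comm h hL (fun l hl => (hLk l hl).symm) hl'L
    have e2 : a * l' = l' * a := lift_comm h hL haL hl'L
    -- the lift `d'` of `d`
    obtain ⟨d', hd'⟩ : ∃ d', d' = y * l'⁻¹ := ⟨_, rfl⟩
    have hyd : y = d' * l' := by rw [hd', inv_mul_cancel_right]
    have hfd : f d' = d := by
      rw [hd', map_mul, map_inv, hl', ← h1, mul_inv_cancel_right]
    have e3 : d' * k = k * d' := by
      have h2 : d' * l' * k = k * (d' * l') := by rw [← hyd]; exact hy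
      rw [mul_assoc, ← e1, ← mul_assoc, ← mul_assoc] at h2
      exact mul_right_cancel h2
    have hdE : (d : Q) ∈ E := ⟨d.2, d', mem_centralizer_singleton_iff.2 e3, hfd⟩
    have e4 : d' * a = a * d' := by
      have hz : ∀ x : G, x * a = a * x → x * z * a = a * (x * z) := by
        intro x hx
        rw [mul_assoc, zc, ← mul_assoc, hx, mul_assoc]
      rcases hEall _ hdE with h2 | h2 | h2 | h2
      · rw [← hfd, ← map_one f] at h2
        rcases (h.eq_iff _ _).1 h2 with h3 | h3 <;> rw [h3]
        · rw [one_mul, mul_one]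
        · exact hz 1 (by rw [one_mul, mul_one])
      · rw [← hfd] at h2
        rcases (h.eq_iff _ _).1 h2 with h3 | h3 <;> rw [h3]
        · exact hak.symm
        · exact hz k hak.symm
      · rw [← hfd] at h2
        rcases (h.eq_iff _ _).1 h2 with h3 | h3 <;> rw [h3]
        exact hz a rfl
      · rw [← hfd, ← map_mul] at h2
        have h4 : k * a * a = a * (k * a) := by rw [← mul_assoc, hak]
        rcases (h.eq_iff _ _).1 h2 with h3 | h3 <;> rw [h3]
        · exact h4
        · exact hz _ h4
    rw [hyd, mul_assoc, ← e2, ← mul_assoc, e4, mul_assoc]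
  rcases hle a hLe with h1 | h1 | h1 | h1
  · exact ha1 (by rw [h1, map_one])
  · exact ha1 (by rw [h1, h.map_z])
  · exact haw (by rw [h1])
  · exact haw (by rw [h1, map_mul, h.map_z, one_mul])

/-- **The centraliser of `L` in `C(f k)`** -/
theorem cent_abs [Finite G] (h : Dbl f z) {k u : G} {L : Subgroup Q} (hk : k * k = z) (hu : k * u = z * (u * k))
    (hL : ⁅L, L⁆ = L) (hLk : ∀ l ∈ L, l * f k = f k * l) (hLu : ∀ l ∈ L, l * f u = f u * l)
    (hc : ∀ g ∈ L, (∀ l ∈ L, g * l = l * g) → g = 1)
    (hcard : Nat.card (centralizer ({f k} : Set Q)) ≤ 8 * Nat.card L)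
    (hle : ∀ a : G, (∀ x, x * k = k * x → x * a = a * x) → a = 1 ∨ a = z ∨ a = k ∨ a = z * k) :
    ∀ g : Q, g * f k = f k * g → (∀ l ∈ L, g * l = l * g) → g = 1 ∨ g = f k ∨ g = f u ∨ g = f k * f u := by
  intro g hgk hgL
  obtain ⟨g', rfl⟩ := h.surj g
  rcases h.comm_cases hgk with h1 | h1
  · rcases core h hk hu hL hLk hLu hc hcard hle h1 hgL with h2 | h2
    · exact Or.inl h2
    · exact Or.inr (Or.inl h2)
  · -- `g' u⁻¹` commutes with `k`
    have zc : ∀ g, z * g = g * z := fun g => (h.cen g).symm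
    have hzi : z⁻¹ = z := by rw [inv_eq_iff_mul_eq_one]; exact h.sq
    have e0 : k * u⁻¹ = u⁻¹ * k * z := by
      have e1 : u⁻¹ * (k * u) = z * k := by
        rw [hu, zc, ← mul_assoc, ← mul_assoc, inv_mul_cancel, one_mul, zc]
      have e2 : u⁻¹ * k = z * k * u⁻¹ := by rw [← e1]; group
      rw [e2, zc (k), mul_assoc (k * z), zc u⁻¹ |>.symm, mul_assoc k, ← mul_assoc z z, h.sq, one_mul]
    have h2 : g' * u⁻¹ * k = k * (g' * u⁻¹) := by
      have e3 : u⁻¹ * k = k * u⁻¹ * z := by
        rw [e0, mul_assoc, h.sq, mul_one]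
      rw [mul_assoc, e3, ← mul_assoc, ← mul_assoc, h1, mul_assoc (k * g'), zc u⁻¹, mul_assoc (k * g'),
        mul_assoc u⁻¹, h.sq, mul_one, mul_assoc]
    have h3 : ∀ l ∈ L, f (g' * u⁻¹) * l = l * f (g' * u⁻¹) := by
      intro l hl
      have h4 : (f u)⁻¹ * l = l * (f u)⁻¹ := by
        rw [inv_mul_eq_iff_eq_mul, ← mul_assoc, ← hLu l hl, mul_assoc, mul_inv_cancel, mul_one]
      rw [map_mul, map_inv, mul_assoc, h4, ← mul_assoc, hgL l hl, mul_assoc]
    rcases core h hk hu hL hLk hLu hc hcard hle h2 h3 with h4 | h4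
    · right; right; left
      rw [map_mul, map_inv, mul_inv_eq_one] at h4
      exact h4
    · right; right; right
      rw [map_mul, map_inv, mul_inv_eq_iff_eq_mul] at h4
      exact h4

end Cfsg.Agent.KFacts.Co1D4.CentAbs
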