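import Cfsg.Agent.KFacts.Co1D4.Order
import Cfsg.Agent.KFacts.Co1D4.CentAbs
import Cfsg.Agent.OddHalf.D4.Spor.TwoCo1

/-!
# The centraliser of a 2B involution of `Co1` (helper927, text of helper249)
-/

set_option autoImplicit false

namespace Cfsg.Agent.KFacts.Co1D4.Cent

open Cfsg Cfsg.Agent.SporadicA.GolayBase Cfsg.Agent.SporadicA.Co0Mono
open Cfsg.Agent.SporadicA.Co1Simple (allOne)
open Cfsg.Agent.CoOneType.InvMain (b0 b0_mul_self conj_b0_of_sq_neg)
open Cfsg.Agent.CoOneType.SignFacts (sign_allOne_comm)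
open Cfsg.Agent.CoOneType.ClosingFacts (mk mk_mul mk_eq_one)
open Cfsg.Agent.KFacts.Co1D4.CentAbs
open Subgroup

/-- `Co0 → Co1` -/
noncomputable def pr : Co0 →* Spor.Co1 := QuotientGroup.mk' (Subgroup.center Co0)

theorem pr_apply (g : Co0) : pr g = mk g := rfl

theorem allOne_ne_one : signCo0 allOne ≠ 1 := by
  intro h
  rw [← signCo0_zero] at h
  have h2 : signCo0 allOne * permCo0 1 = signCo0 0 * permCo0 1 := by rw [h]
  have h3 := congrArg (fun c : golayCode => (c : GolayPt → ZMod 2) none) (CoOneType.InvMain.sp_inj h2).1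
  exact absurd h3 (by decide)

theorem dbl : Dbl pr (signCo0 allOne) where
  surj := QuotientGroup.mk'_surjective _
  cen := sign_allOne_comm
  sq := signCo0_mul_self _
  ne := allOne_ne_one
  ker := mk_eq_one

theorem finite_co0 : Finite Co0 := Cfsg.Agent.CoOneType.FrameFix.finite_co0

theorem card_cent0 {k : Co0} (hk : k * k = signCo0 allOne) :
    Nat.card (Subgroup.centralizer ({k} : Set Co0)) ≤ 2012774400 := by
  have hfin := finite_co0
  obtain ⟨g, hg⟩ := conj_b0_of_sq_neg k hk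
  refine le_trans ?_ Order.card_cent
  refine Nat.card_le_card_of_injective (fun x : Subgroup.centralizer ({k} : Set Co0) =>
    (⟨g * x * g⁻¹, mem_centralizer_singleton_iff.2 ?_⟩ : Subgroup.centralizer ({b0} : Set Co0))) ?_
  · have h1 : (x : Co0) * k = k * x := mem_centralizer_singleton_iff.1 x.2
    rw [← hg]
    have e1 : g * (x : Co0) * g⁻¹ * (g * k * g⁻¹) = g * (x * k) * g⁻¹ := by group
    have e2 : (g * k * g⁻¹) * (g * (x : Co0) * g⁻¹) = g * (k * x) * g⁻¹ := by group
    rw [e1, e2, h1]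
  · intro x y hxy
    have h1 : g * (x : Co0) * g⁻¹ = g * (y : Co0) * g⁻¹ :=
      congrArg (fun q : Subgroup.centralizer ({b0} : Set Co0) => (q : Co0)) hxy
    exact Subtype.ext (mul_left_cancel (mul_right_cancel h1))

/-- **`|C(w)| ≤ 2012774400`** for `w = pr k`, `k² = -1`. -/
theorem card_cent1 {k : Co0} (hk : k * k = signCo0 allOne) :
    Nat.card (Subgroup.centralizer ({mk k} : Set Spor.Co1)) ≤ 2012774400 := by
  have hfin := finite_co0
  exact (card_cent_le dbl k).trans (card_cent0 hk)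

/-- **`C(w) ∩ C(L) = {1, w, v, w v}`** -/
theorem cent_eq {k u : Co0} {L : Subgroup Spor.Co1} (hk : k * k = signCo0 allOne)
    (hu : k * u = signCo0 allOne * (u * k)) (hL : ⁅L, L⁆ = L) (hLk : ∀ l ∈ L, l * mk k = mk k * l)
    (hLu : ∀ l ∈ L, l * mk u = mk u * l) (hc : ∀ g ∈ L, (∀ l ∈ L, g * l = l * g) → g = 1)
    (hcard : Nat.card (Subgroup.centralizer ({mk k} : Set Spor.Co1)) ≤ 8 * Nat.card L) :
    ∀ g : Spor.Co1, g * mk k = mk k * g → (∀ l ∈ L, g * l = l * g) →
      g = 1 ∨ g = mk k ∨ g = mk u ∨ g = mk k * mk u := by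
  have hfin := finite_co0
  refine cent_abs dbl hk hu hL hLk hLu hc hcard fun a ha => ?_
  refine Cfsg.Agent.OddHalf.D4.Spor.TwoCo1.eq_of_le ?_ ?_ (Or.inr hk) fun x hx => ha x hx
  · rintro rfl
    rw [one_mul] at hk
    exact allOne_ne_one hk.symm
  · intro h
    have h1 : k = signCo0 allOne := h
    rw [h1, signCo0_mul_self] at hk
    exact allOne_ne_one hk.symm

end Cfsg.Agent.KFacts.Co1D4.Cent
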