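import Cfsg.Agent.KFacts.Co1D4.DodBal
import Cfsg.Agent.OddHalf.D4.Spor.LargeBase

/-!
# The involutions of class 2C of `Co₁`: `Bad` is impossible
-/

set_option autoImplicit false
set_option Elab.async false
open Cfsg
open scoped Pointwise

namespace Cfsg.Agent.KFacts.Co1D4.DodBad

open Cfsg.Agent.SporadicA.GolayBase Cfsg.Agent.SporadicA.GolayPerm
open Cfsg.Agent.SporadicStructure.M24El
open Cfsg.Agent.SporadicA.Co0Mono Cfsg.Agent.SporadicA.Co1Simple
open Cfsg.Agent.CoOneType.SignFacts (sup mem_sup notMem_sup wt sup_mem wt_cases wt_add_allOne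
  sign_allOne_comm mem_N_of_conj_dodecad)
open Cfsg.Agent.CoOneType.ClosingFacts (mk mk_mul mk_inv exists_mk mk_eq_one mk_eq mk_add_allOne isConj_dodecad
  eq_zero_of_wt eq_allOne_of_wt)
open Cfsg.Agent.CoOneType.CoOneE (wt_add sup_wordPerm)
open Cfsg.Agent.KFacts.Co1.OctGen (sign_inj)
open Cfsg.Agent.Co2Type.Mono
open Cfsg.Agent.OddHalf.D4.Spor (Bad Cen)
open DodBal

/-- The standard dodecad. -/
def dm : ℕ := 13553934

/-- Three permutations fixing it. -/
def Pl : List ℕ :=
  [958843626937166754525970162888333895, 518175122585017980860713130246846740, 105404610188565443420701032041434592]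

theorem ok_Pl : ∀ P ∈ Pl, (ok P && Nat.beq (pimg P dm) dm) = true := by decide +kernel

theorem ok_dm : isCode dm = true ∧ popcount dm = 12 := by decide +kernel

/-- the test of a word -/
def test (m : ℕ) : Bool :=
  !(Nat.beq (popcount m) 12) || (!(Nat.beq (popcount (m &&& dm)) 6) ||
    Pl.any fun P => Nat.beq (popcount (m ^^^ pimg P m)) 8 || Nat.beq (popcount (m ^^^ pimg P m)) 16)

theorem cert : allR 12 0 (fun i => test (enc i)) = true := by decide +kernel

/-- octads meeting the dodecad in four points -/
def Ol : List ℕ := [1302533, 16056344, 8937586, 864389, 8521420, 2372388]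

theorem ok_Ol : ∀ m ∈ Ol, isCode m = true ∧ popcount m = 8 ∧ popcount (m &&& dm) = 4 := by decide +kernel

theorem sep_Ol : ∀ a < 24, ∀ b < 24, a = b ∨ ∃ m ∈ Ol, Nat.testBit m a ≠ Nat.testBit m b := by decide +kernel

/-- a permutation fixing the octads of `Ol` is trivial -/
theorem perm_eq_one {σ : M24} (h : ∀ m ∈ Ol, wordPerm σ (cd m) = cd m) : σ = 1 := by
  apply Subtype.ext
  apply Equiv.ext
  intro p
  have h0 : ∀ m ∈ Ol, (σ • p ∈ sup (cd m) ↔ p ∈ sup (cd m)) := by
    intro m hm
    have h2 := sup_wordPerm σ (cd m)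
    rw [h m hm] at h2
    conv_lhs => rw [h2]
    exact Finset.smul_mem_smul_finset_iff σ
  have h1 : idx (σ • p) = idx p := by
    rcases sep_Ol (idx (σ • p)) (idx_lt _) (idx p) (idx_lt _) with h2 | ⟨m, hm, h2⟩
    · exact h2
    · exfalso
      have h3 := h0 m hm
      rw [sup_cd (ok_Ol m hm).1, mem_fin, mem_fin] at h3
      apply h2
      cases h4 : Nat.testBit m (idx (σ • p)) <;> cases h5 : Nat.testBit m (idx p) <;> simp_all
  have h2 := congrArg pt h1
  rw [pt_idx, pt_idx] at h2
  exact h2

theorem wt_wordPerm (σ : M24) (c : golayCode) : wt (wordPerm σ c) = wt c := by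
  unfold wt
  rw [sup_wordPerm]
  exact Finset.card_smul_finset σ _

/-- the conjugate of a sign change under a monomial element -/
theorem conj_sign (a c : golayCode) (σ : M24) :
    signCo0 a * permCo0 σ * signCo0 c * (signCo0 a * permCo0 σ)⁻¹ = signCo0 (wordPerm σ c) := by
  have h2 : signCo0 a * permCo0 σ * signCo0 c * (signCo0 a * permCo0 σ)⁻¹ =
      signCo0 a * (permCo0 σ * signCo0 c * (permCo0 σ)⁻¹) * (signCo0 a)⁻¹ := by group
  rw [h2, perm_mul_sign_mul_inv, signCo0_inv, ← signCo0_add, ← signCo0_add]
  congr 1
  rw [add_comm a, add_assoc, signCo0_add_self a, add_zero]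

section

variable {N : Subgroup Spor.Co1}

/-- **`Bad` is impossible** at the standard dodecad. -/
theorem not_bad_dm (hC : ∀ o : golayCode, wt o = 8 → Cen (mk (signCo0 o))) : ¬ Bad (mk (signCo0 (cd dm))) N := by
  intro h
  have hd : wt (cd dm) = 12 := by rw [wt_cd ok_dm.1]; exact ok_dm.2
  set d := cd dm with hddef
  -- the weights of the words in `N`
  have hwt : ∀ c : golayCode, mk (signCo0 c) ∈ N → wt c ≠ 8 ∧ wt c ≠ 16 := by
    intro c hc
    have hsq : mk (signCo0 c) * mk (signCo0 c) = 1 := by
      rw [← mk_mul, signCo0_mul_self]; rfl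
    have hne : wt c ≠ 0 → wt c ≠ 24 → mk (signCo0 c) ≠ 1 := by
      intro h0 h1 h2
      rcases (mk_eq_one _).1 h2 with h3 | h3
      · rw [← signCo0_zero] at h3
        apply h0
        rw [sign_inj h3]
        unfold wt
        rw [CoOneType.CoOneE.sup_zero, Finset.card_empty]
      · have h4 := sign_inj h3
        have h5 := wt_add_allOne c
        rw [h4, signCo0_add_self] at h5
        have h6 : wt (0 : golayCode) = 0 := by
          unfold wt
          rw [CoOneType.CoOneE.sup_zero, Finset.card_empty]
        rw [h4] at h1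
        omega
    constructor
    · intro h8
      exact h.non _ hc hsq (hne (by omega) (by omega)) (hC c h8)
    · intro h16
      refine h.non _ hc hsq (hne (by omega) (by omega)) ?_
      have := wt_add_allOne c
      rw [← mk_add_allOne c]
      exact hC _ (by omega)
  have hdN : mk (signCo0 d) ∈ N := h.mem
  -- words commuting with `d`
  have hcomm : ∀ c : golayCode, mk (signCo0 c) * mk (signCo0 d) = mk (signCo0 d) * mk (signCo0 c) := fun c => by
    rw [← mk_mul, ← mk_mul, ← signCo0_add, ← signCo0_add, add_comm]
  -- (2): the words in `N`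
  have h2 : ∀ c : golayCode, mk (signCo0 c) ∈ N → c = 0 ∨ c = allOne ∨ c = d ∨ c = d + allOne := by
    intro c hc
    have h3 : mk (signCo0 (c + d)) ∈ N := by
      rw [signCo0_add, mk_mul]
      exact N.mul_mem hc hdN
    have h4 := hwt c hc
    have h5 := hwt _ h3
    have h6 := wt_add c d
    rcases wt_cases c with e | e | e | e | e
    · exact Or.inl (eq_zero_of_wt e)
    · exact absurd e h4.1
    · rcases wt_cases (c + d) with e' | e' | e' | e' | e'
      · right; right; left
        have h7 := eq_zero_of_wt e'
        calc c = c + d + d := by rw [add_assoc, signCo0_add_self, add_zero]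
          _ = d := by rw [h7, zero_add]
      · exact absurd e' h5.1
      · -- the intersection has six points
        exfalso
        obtain ⟨m, hm, rfl⟩ := exists_cd c
        have h7 : popcount (m &&& dm) = 6 := by
          have e2 : (sup (cd m) ∩ sup d).card = popcount (m &&& dm) := by
            rw [hddef, sup_cd hm, sup_cd ok_dm.1, ← fin_and, card_fin]
          omega
        have h8 : popcount m = 12 := by rw [← wt_cd hm]; exact e
        obtain ⟨i, hi, rfl⟩ := isCode_iff_exists.1 hm
        have h9 := allR_zero_spec cert i (by omega)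
        simp only [test, h7, h8] at h9
        have h10 : ∃ P ∈ Pl, popcount (enc i ^^^ pimg P (enc i)) = 8 ∨ popcount (enc i ^^^ pimg P (enc i)) = 16 := by
          have h11 : (Pl.any fun P => Nat.beq (popcount (enc i ^^^ pimg P (enc i))) 8 ||
              Nat.beq (popcount (enc i ^^^ pimg P (enc i))) 16) = true := by
            simpa using h9
          obtain ⟨P, hP, h12⟩ := List.any_eq_true.1 h11
          rw [Bool.or_eq_true, Nat.beq_eq, Nat.beq_eq] at h12
          exact ⟨P, hP, h12⟩
        obtain ⟨P, hP, h11⟩ := h10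
        have h12 := ok_Pl P hP
        rw [Bool.and_eq_true, Nat.beq_eq] at h12
        obtain ⟨hok, hpd⟩ := h12
        have h13 : permCo0 (el P) * signCo0 d * (permCo0 (el P))⁻¹ = signCo0 d := by
          rw [perm_mul_sign_mul_inv, hddef, wordPerm_cd hok ok_dm.1, hpd]
        have h14 : mk (permCo0 (el P)) * mk (signCo0 d) = mk (signCo0 d) * mk (permCo0 (el P)) := by
          rw [← mk_mul, ← mk_mul]
          congr 1
          calc permCo0 (el P) * signCo0 d = permCo0 (el P) * signCo0 d * (permCo0 (el P))⁻¹ * permCo0 (el P) := by group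
            _ = signCo0 d * permCo0 (el P) := by rw [h13]
        have h15 := h.norm _ h14 _ hc
        have h16 : mk (permCo0 (el P)) * mk (signCo0 (cd (enc i))) * (mk (permCo0 (el P)))⁻¹ =
            mk (signCo0 (cd (pimg P (enc i)))) := by
          have : permCo0 (el P) * signCo0 (cd (enc i)) * (permCo0 (el P))⁻¹ = signCo0 (cd (pimg P (enc i))) := by
            rw [perm_mul_sign_mul_inv, wordPerm_cd hok hm]
          rw [← this]; rfl
        rw [h16] at h15
        have hm' : isCode (pimg P (enc i)) = true := by
          have := isCode_pimg hok hm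
          exact this
        have h17 : mk (signCo0 (cd (enc i ^^^ pimg P (enc i)))) ∈ N := by
          rw [cd_xor hm hm', signCo0_add, mk_mul]
          exact N.mul_mem hc h15
        have h18 := hwt _ h17
        rw [wt_cd (isCode_xor hm hm')] at h18
        omega
      · exact absurd e' h5.2
      · right; right; right
        have h7 := eq_allOne_of_wt e'
        calc c = c + d + d := by rw [add_assoc, signCo0_add_self, add_zero]
          _ = d + allOne := by rw [h7, add_comm]
    · exact absurd e h4.2
    · exact Or.inr (Or.inl (eq_allOne_of_wt e))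
  -- (1): every element of `N` is a sign change
  have h1 : ∀ n ∈ N, n = 1 ∨ n = mk (signCo0 d) := by
    intro n hn
    obtain ⟨g, rfl⟩ := exists_mk n
    obtain ⟨a, σ, rfl⟩ := exists_sign_perm (mem_N hd (h.le _ hn))
    have hσ : σ = 1 := by
      apply perm_eq_one
      intro m hm
      obtain ⟨hc, h8, h4⟩ := ok_Ol m hm
      have h3 := h.norm _ (hcomm (cd m)) _ (N.inv_mem hn)
      have h5 : mk (signCo0 a * permCo0 σ) * (mk (signCo0 (cd m)) * (mk (signCo0 a * permCo0 σ))⁻¹ *
          (mk (signCo0 (cd m)))⁻¹) ∈ N := N.mul_mem hn h3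
      have h6 : mk (signCo0 a * permCo0 σ) * (mk (signCo0 (cd m)) * (mk (signCo0 a * permCo0 σ))⁻¹ *
          (mk (signCo0 (cd m)))⁻¹) = mk (signCo0 (wordPerm σ (cd m) + cd m)) := by
        have : signCo0 (wordPerm σ (cd m) + cd m) = signCo0 a * permCo0 σ * (signCo0 (cd m) *
            (signCo0 a * permCo0 σ)⁻¹ * (signCo0 (cd m))⁻¹) := by
          rw [signCo0_add, ← conj_sign a, signCo0_inv]; group
        rw [this]; rfl
      rw [h6] at h5
      have hw8 : wt (cd m) = 8 := by rw [wt_cd hc]; exact h8
      have h7 := wt_wordPerm σ (cd m)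
      have h9 := wt_add (wordPerm σ (cd m)) (cd m)
      have hcancel : wordPerm σ (cd m) = wordPerm σ (cd m) + cd m + cd m := by
        rw [add_assoc, signCo0_add_self, add_zero]
      have hd4 : (sup (cd m) ∩ sup d).card = 4 := by
        rw [hddef, sup_cd hc, sup_cd ok_dm.1, ← fin_and, card_fin]; exact h4
      have hcd8 : wt (cd m + d) = 12 := by
        have := wt_add (cd m) d
        omega
      rcases h2 _ h5 with e | e | e | e
      · rw [hcancel, e, zero_add]
      · exfalso
        rw [e, h7, hw8] at h9
        have := wt_add_allOne 0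
        rw [zero_add] at this
        have hz : wt (0 : golayCode) = 0 := by
          unfold wt
          rw [CoOneType.CoOneE.sup_zero, Finset.card_empty]
        omega
      · exfalso
        rw [e, add_comm] at hcancel
        rw [hcancel, hcd8] at h7
        omega
      · exfalso
        have h10 : wordPerm σ (cd m) = cd m + d + allOne := by
          rw [hcancel, e, add_comm, ← add_assoc]
        have h11 := wt_add_allOne (cd m + d)
        rw [h10] at h7
        omega
    subst hσ
    rw [map_one, mul_one] at hn ⊢
    rcases h2 a hn with e | e | e | e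
    · left; rw [e, signCo0_zero]; rfl
    · left; rw [e]; exact (mk_eq_one _).2 (Or.inr rfl)
    · right; rw [e]
    · right; rw [e, mk_add_allOne]
  have h3 : Nat.card N ≤ 2 := by
    classical
    have h4 : (N : Set Spor.Co1) ⊆ (({1, mk (signCo0 d)} : Finset Spor.Co1) : Set Spor.Co1) := by
      intro n hn
      rcases h1 n hn with e | e
      · rw [e]; simp
      · rw [e]; simp
    have h5 := Set.ncard_le_ncard h4 (Finset.finite_toSet _)
    rw [Set.ncard_coe_finset] at h5
    exact h5.trans Finset.card_le_two
  have h4 := Nat.le_of_dvd (Nat.card_pos (α := N)) h.four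
  omega

/-- **`Bad` is impossible** for the involutions of class 2C. -/
theorem not_bad (hC : ∀ o : golayCode, wt o = 8 → Cen (mk (signCo0 o))) {d : golayCode} (hd : wt d = 12)
    (N : Subgroup Spor.Co1) : ¬ Bad (mk (signCo0 d)) N := by
  intro h
  have hdm : wt (cd dm) = 12 := by rw [wt_cd ok_dm.1]; exact ok_dm.2
  obtain ⟨g, hg⟩ := isConj_iff.1 (isConj_dodecad hdm hd)
  rw [← hg] at h
  exact not_bad_dm hC (OddHalf.D4.Spor.LargeBase.bad_conj h)

end

end Cfsg.Agent.KFacts.Co1D4.DodBad
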