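import Cfsg.Agent.CoOneType.CoOneE
import Cfsg.Agent.CoOneType.ClosingFacts
import Cfsg.Agent.KFacts.Co1.OctGen
import Cfsg.Agent.Co2Type.Mono

/-!
# `O(C(c)) = 1` for the involutions `c` of `Co₁` given by dodecads
-/

set_option autoImplicit false
open Cfsg
open scoped Pointwise

namespace Cfsg.Agent.KFacts.Co1D4.DodBal

open Cfsg.Agent.SporadicA.GolayBase Cfsg.Agent.SporadicA.GolayPerm
open Cfsg.Agent.SporadicStructure.M24El
open Cfsg.Agent.SporadicA.Co0Mono Cfsg.Agent.SporadicA.Co1Simple
open Cfsg.Agent.CoOneType.SignFacts (sup mem_sup notMem_sup wt sup_mem wt_cases wt_add_allOne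
  sign_allOne_comm mem_N_of_conj_dodecad)
open Cfsg.Agent.CoOneType.ClosingFacts (mk mk_mul mk_inv exists_mk mk_eq_one mk_eq)
open Cfsg.Agent.KFacts.Co1.OctGen (sign_inj)
open Cfsg.Agent.Co2Type.Mono

theorem sup_cd {m : ℕ} (h : isCode m = true) : sup (cd m) = fin m := by
  unfold sup
  rw [coe_cd h]
  exact support₂_word m

theorem wt_cd {m : ℕ} (h : isCode m = true) : wt (cd m) = popcount m := by
  unfold wt
  rw [sup_cd h, card_fin]

theorem sep : ∀ a < 24, ∀ b < 24, a = b ∨ ∃ k < 12, Nat.testBit (basisMask k) a ≠ Nat.testBit (basisMask k) b := by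
  decide +kernel

theorem okB : ∀ k < 12, isCode (basisMask k) = true ∧ popcount (basisMask k) = 8 := by decide +kernel

/-- a permutation fixing all the octads is trivial -/
theorem perm_eq_one {σ : M24} (h : ∀ c : golayCode, wt c = 8 → wordPerm σ c = c) : σ = 1 := by
  apply Subtype.ext
  apply Equiv.ext
  intro p
  have h0 : ∀ k < 12, (σ • p ∈ sup (cd (basisMask k)) ↔ p ∈ sup (cd (basisMask k))) := by
    intro k hk
    have h1 := h (cd (basisMask k)) (by rw [wt_cd (okB k hk).1]; exact (okB k hk).2)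
    have h2 := Cfsg.Agent.CoOneType.CoOneE.sup_wordPerm σ (cd (basisMask k))
    rw [h1] at h2
    conv_lhs => rw [h2]
    exact Finset.smul_mem_smul_finset_iff σ
  have h1 : idx (σ • p) = idx p := by
    rcases sep (idx (σ • p)) (idx_lt _) (idx p) (idx_lt _) with h2 | ⟨k, hk, h2⟩
    · exact h2
    · exfalso
      have h3 := h0 k hk
      rw [sup_cd (okB k hk).1, mem_fin, mem_fin] at h3
      apply h2
      cases h4 : Nat.testBit (basisMask k) (idx (σ • p)) <;> cases h5 : Nat.testBit (basisMask k) (idx p) <;>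
        simp_all
  have h2 := congrArg pt h1
  rw [pt_idx, pt_idx] at h2
  exact h2

/-- elements of `C(c)`, `c` a dodecad, are monomial -/
theorem mem_N {d : golayCode} (hd : wt d = 12) {g : Co0}
    (h : mk g * mk (signCo0 d) = mk (signCo0 d) * mk g) : g ∈ N := by
  rw [← mk_mul, ← mk_mul, mk_eq] at h
  rcases h with h | h
  · exact mem_N_of_conj_dodecad d d hd hd g h
  · have h2 := wt_add_allOne d
    apply mem_N_of_conj_dodecad d (d + allOne) hd (by omega) g
    rw [h, signCo0_add, mul_assoc, mul_assoc, sign_allOne_comm]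

theorem mk_sign_eq {c d : golayCode} (h : mk (signCo0 c) = mk (signCo0 d)) : c = d ∨ c = d + allOne := by
  rcases (mk_eq _ _).1 h with h | h
  · exact Or.inl (sign_inj h)
  · rw [← signCo0_add] at h
    exact Or.inr (sign_inj h)

/-- **`O(C(c)) = 1`**. -/
theorem bal {d : golayCode} (hd : wt d = 12) (I : Subgroup Spor.Co1)
    (hI : ∀ i ∈ I, i * mk (signCo0 d) = mk (signCo0 d) * i)
    (hn : ∀ c : Spor.Co1, c * mk (signCo0 d) = mk (signCo0 d) * c → ∀ i ∈ I, c * i * c⁻¹ ∈ I)
    (ho : Odd (Nat.card I)) : I = ⊥ := by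
  have key : ∀ i ∈ I, i * i = 1 → i = 1 := by
    intro i hi hii
    have h3 : orderOf i ∣ 2 := orderOf_dvd_of_pow_eq_one (by rw [pow_two]; exact hii)
    have h4 : orderOf i ∣ Nat.card I := by
      have := orderOf_dvd_natCard (⟨i, hi⟩ : I)
      rwa [Subgroup.orderOf_mk] at this
    have h5 : orderOf i ∣ 1 := by
      have := Nat.dvd_gcd h3 h4
      rwa [Nat.Coprime.gcd_eq_one (Nat.coprime_two_left.2 ho)] at this
    exact orderOf_eq_one_iff.1 (Nat.dvd_one.1 h5)
  rw [eq_bot_iff]
  intro i hi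
  rw [Subgroup.mem_bot]
  obtain ⟨g, rfl⟩ := exists_mk i
  obtain ⟨a, σ, rfl⟩ := exists_sign_perm (mem_N hd (hI _ hi))
  have hσ : σ = 1 := by
    apply perm_eq_one
    intro c hc
    set g := signCo0 a * permCo0 σ with hg
    have h1 : g * signCo0 c * g⁻¹ = signCo0 (wordPerm σ c) := by
      have h2 : g * signCo0 c * g⁻¹ = signCo0 a * (permCo0 σ * signCo0 c * (permCo0 σ)⁻¹) * (signCo0 a)⁻¹ := by
        rw [hg]; group
      rw [h2, perm_mul_sign_mul_inv, signCo0_inv, ← signCo0_add, ← signCo0_add]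
      congr 1
      rw [add_comm a, add_assoc, signCo0_add_self a, add_zero]
    have h2 : mk (signCo0 c) * mk (signCo0 d) = mk (signCo0 d) * mk (signCo0 c) := by
      rw [← mk_mul, ← mk_mul, ← signCo0_add, ← signCo0_add, add_comm]
    have h3 := hn _ h2 _ (I.inv_mem hi)
    have h4 : mk g * (mk (signCo0 c) * (mk g)⁻¹ * (mk (signCo0 c))⁻¹) ∈ I := I.mul_mem hi h3
    have h5 : mk g * (mk (signCo0 c) * (mk g)⁻¹ * (mk (signCo0 c))⁻¹) = mk (signCo0 (wordPerm σ c + c)) := by
      have : signCo0 (wordPerm σ c + c) = g * (signCo0 c * g⁻¹ * (signCo0 c)⁻¹) := by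
        rw [signCo0_add, ← h1, signCo0_inv]; group
      rw [this]; rfl
    rw [h5] at h4
    have h6 := key _ h4 (by
      rw [← mk_mul, ← signCo0_add, signCo0_add_self, signCo0_zero]; rfl)
    have h7 : mk (signCo0 (wordPerm σ c + c)) = mk (signCo0 0) := by rw [h6, signCo0_zero]; rfl
    have hwt : wt (wordPerm σ c) = wt c := by
      unfold wt
      rw [Cfsg.Agent.CoOneType.CoOneE.sup_wordPerm]
      exact Finset.card_smul_finset σ _
    rcases mk_sign_eq h7 with h8 | h8
    · calc wordPerm σ c = wordPerm σ c + c + c := by rw [add_assoc, signCo0_add_self, add_zero]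
        _ = c := by rw [h8, zero_add]
    · exfalso
      have h9 : wordPerm σ c = c + allOne := by
        calc wordPerm σ c = wordPerm σ c + c + c := by rw [add_assoc, signCo0_add_self, add_zero]
          _ = c + allOne := by rw [h8, zero_add, add_comm]
      have h10 := wt_add_allOne c
      rw [← h9, hwt] at h10
      omega
  subst hσ
  apply key _ hi
  rw [map_one, mul_one, ← mk_mul, signCo0_mul_self]; rfl

end Cfsg.Agent.KFacts.Co1D4.DodBal
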