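import Cfsg.Agent.OddHalf.D9.Co1.Facts
import Cfsg.Agent.OddHalf.D4.Spor.LargeBase

/-!
# ODD half, D4, `K = Co₁`: no bad subgroup of the centralizer of an involution of type 2C

`not_bad`: if the sign changes on octads are 2-central, then there is no `N` with `Bad (mk (signCo0 d)) N`, `d` a dodecad.
-/

set_option autoImplicit false
set_option Elab.async false

namespace Cfsg.Agent.KFacts.Co1D4.Dodecad

open Cfsg
open Cfsg.Agent.SporadicA.GolayBase Cfsg.Agent.SporadicA.GolayPerm
open Cfsg.Agent.SporadicStructure.M24El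
open Cfsg.Agent.SporadicA.Co0Mono Cfsg.Agent.SporadicA.Co1Simple
open Cfsg.Agent.Co2Type.Mono
open Cfsg.Agent.CoOneType.InvMain (cd_all)
open Cfsg.Agent.CoOneType.SignFacts (sup mem_sup notMem_sup wt wt_cases wt_add_allOne sign_allOne_comm
  mem_N_of_conj_dodecad)
open Cfsg.Agent.CoOneType.ClosingFacts (eq_zero_of_wt eq_allOne_of_wt mk mk_mul mk_inv exists_mk mk_eq_one mk_eq mk_add_allOne)
open Cfsg.Agent.OddHalf.D9.Co1.Facts (wt_cd sign_ne_one sign_ne_ζ conj_dodecad)
open Cfsg.Agent.OddHalf.D4.Spor (Bad Cen)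
open Cfsg.Agent.OddHalf.D4.Spor.LargeBase (bad_conj)

/-! ### The code words -/

def dm : ℕ := 13553934
def al : ℕ := 16777215
def T1 : ℕ := 610350453681753995676112748890080357
def T2 : ℕ := 112511726314814240919414117789912453

/-- `m` and `m + d` have weight 12 -/
def bad (m : ℕ) : Bool := Nat.beq (popcount m) 12 && Nat.beq (popcount (m ^^^ dm)) 12

/-- `m` is `0`, `d`, `1` or `1 + d` -/
def triv (m : ℕ) : Bool := Nat.beq m 0 || (Nat.beq m dm || (Nat.beq m al || Nat.beq m (al ^^^ dm)))

def g1 (m : ℕ) : Bool := !(bad m) && !(triv m)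

def good (m : ℕ) : Bool := Nat.beq m 0 || (!(bad m) || (g1 (m ^^^ pimg T1 m) || g1 (m ^^^ pimg T2 m)))

theorem all_good : allR 10 0 (fun i => good (enc (4 * i))) = true := by decide +kernel

theorem okT : (ok T1 && Nat.beq (pimg T1 dm) dm && ok T2 && Nat.beq (pimg T2 dm) dm &&
    isCode dm && Nat.beq (popcount dm) 12) = true := by decide +kernel

theorem okT1 : ok T1 = true ∧ pimg T1 dm = dm := by
  have h := okT
  simp only [Bool.and_eq_true, Nat.beq_eq] at h
  tauto

theorem okT2 : ok T2 = true ∧ pimg T2 dm = dm := by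
  have h := okT
  simp only [Bool.and_eq_true, Nat.beq_eq] at h
  tauto

theorem code_dm : isCode dm = true := by
  have h := okT
  simp only [Bool.and_eq_true, Nat.beq_eq] at h
  tauto

theorem wt_dm : wt (cd dm) = 12 := by
  have h := okT
  simp only [Bool.and_eq_true, Nat.beq_eq] at h
  rw [wt_cd code_dm]
  tauto

theorem enc_mod (m : ℕ) : enc (m % 4096) = enc m := by
  have h : ∀ k < 12, ((m % 4096) >>> k) % 2 = (m >>> k) % 2 := by
    intro k hk
    interval_cases k <;> simp only [Nat.shiftRight_eq_div_pow] <;> norm_num <;> omega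
  have h0 : m % 4096 % 2 = m % 2 := by omega
  unfold enc
  rw [h0, h 1 (by norm_num), h 2 (by norm_num), h 3 (by norm_num), h 4 (by norm_num), h 5 (by norm_num),
    h 6 (by norm_num), h 7 (by norm_num), h 8 (by norm_num), h 9 (by norm_num), h 10 (by norm_num),
    h 11 (by norm_num)]

theorem good_of_code {m : ℕ} (h : isCode m = true) (h4 : m % 4 = 0) : good m = true := by
  have h1 : enc m = m := isCode_iff.1 h
  have h2 := allR_zero_spec all_good (m % 4096 / 4) (by
    have : m % 4096 < 4096 := Nat.mod_lt _ (by norm_num)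
    norm_num
    omega)
  have h3 : 4 * (m % 4096 / 4) = m % 4096 := by omega
  simp only [h3, enc_mod, h1] at h2
  exact h2

theorem code_al : isCode al = true := by decide +kernel

/-- the trivial words -/
theorem triv_iff {m : ℕ} : triv m = true ↔ m = 0 ∨ m = dm ∨ m = al ∨ m = al ^^^ dm := by
  unfold triv
  simp only [Bool.or_eq_true, Nat.beq_eq]

theorem exists_rep (m : ℕ) : ∃ t, triv t = true ∧ isCode t = true ∧ (m ^^^ t) % 4 = 0 := by
  have key : ∀ t : ℕ, (m ^^^ t) % 4 = (m % 4) ^^^ (t % 4) := fun t => by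
    have := Nat.xor_mod_two_pow (a := m) (b := t) (n := 2)
    simpa using this
  have h4 : m % 4 < 4 := Nat.mod_lt _ (by norm_num)
  have h : m % 4 = 0 ∨ m % 4 = 1 ∨ m % 4 = 2 ∨ m % 4 = 3 := by omega
  rcases h with h | h | h | h
  · exact ⟨0, by decide +kernel, by decide +kernel, by rw [key, h]; decide +kernel⟩
  · exact ⟨al ^^^ dm, by decide +kernel, by decide +kernel, by rw [key, h]; decide +kernel⟩
  · exact ⟨dm, by decide +kernel, by decide +kernel, by rw [key, h]; decide +kernel⟩
  · exact ⟨al, by decide +kernel, by decide +kernel, by rw [key, h]; decide +kernel⟩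

theorem triv_xor {m t : ℕ} (h : (m ^^^ t) = 0) (ht : triv t = true) : triv m = true := by
  have : m = t := by
    have h1 := congrArg (· ^^^ t) h
    simpa [Nat.xor_assoc] using h1
  rw [this]; exact ht

/-! ### The elements of `B` -/

theorem mk_sign_sq (c : golayCode) : mk (signCo0 c) * mk (signCo0 c) = 1 := by
  rw [← mk_mul, signCo0_mul_self]; rfl

variable {B : Subgroup Spor.Co1}

theorem not_wt (hC : ∀ o : golayCode, wt o = 8 → Cen (mk (signCo0 o))) (hB : Bad (mk (signCo0 (cd dm))) B)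
    {c : golayCode} (hc : mk (signCo0 c) ∈ B) : wt c ≠ 8 ∧ wt c ≠ 16 := by
  have key : (wt c = 8 ∨ wt c = 16) → False := by
    intro h
    have hne : mk (signCo0 c) ≠ 1 := by
      intro h1
      rcases (mk_eq_one _).1 h1 with h2 | h2
      · exact sign_ne_one (by omega) h2
      · exact sign_ne_ζ (by omega) h2
    refine hB.non _ hc (mk_sign_sq c) hne ?_
    rcases h with h | h
    · exact hC c h
    · have h1 := hC (c + allOne) (by have := wt_add_allOne c; omega)
      rwa [mk_add_allOne] at h1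
  exact ⟨fun h => key (Or.inl h), fun h => key (Or.inr h)⟩

theorem sign_xor_mem {m n : ℕ} (hm : isCode m = true) (hn : isCode n = true)
    (h1 : mk (signCo0 (cd m)) ∈ B) (h2 : mk (signCo0 (cd n)) ∈ B) : mk (signCo0 (cd (m ^^^ n))) ∈ B := by
  rw [cd_xor hm hn, signCo0_add, mk_mul]
  exact mul_mem h1 h2

theorem bad_of_mem (hC : ∀ o : golayCode, wt o = 8 → Cen (mk (signCo0 o)))
    (hB : Bad (mk (signCo0 (cd dm))) B) {m : ℕ} (hm : isCode m = true) (h : mk (signCo0 (cd m)) ∈ B)
    (ht : triv m = false) : bad m = true := by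
  have h1 := not_wt hC hB h
  have hx := isCode_xor hm code_dm
  have h2 := not_wt hC hB (sign_xor_mem hm code_dm h hB.mem)
  have c1 := wt_cases (cd m)
  have c2 := wt_cases (cd (m ^^^ dm))
  have hne : ¬ (m = 0 ∨ m = dm ∨ m = al ∨ m = al ^^^ dm) := by
    intro h3
    rw [← triv_iff, ht] at h3
    exact absurd h3 (by simp)
  push Not at hne
  have z1 : wt (cd m) ≠ 0 := fun h0 => hne.1 (cd_inj hm isCode_zero (by rw [eq_zero_of_wt h0, cd_zero]))
  have z2 : wt (cd m) ≠ 24 := fun h0 => hne.2.2.1 (cd_inj hm code_al (by rw [eq_allOne_of_wt h0]; exact cd_all.symm))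
  have hxx : m ^^^ dm ^^^ dm = m := by rw [Nat.xor_assoc, Nat.xor_self, Nat.xor_zero]
  have z3 : wt (cd (m ^^^ dm)) ≠ 0 := fun h0 => hne.2.1 (by
    have h3 : m ^^^ dm = 0 := cd_inj hx isCode_zero (by rw [eq_zero_of_wt h0, cd_zero])
    rw [h3, Nat.zero_xor] at hxx
    exact hxx.symm)
  have z4 : wt (cd (m ^^^ dm)) ≠ 24 := fun h0 => hne.2.2.2 (by
    have h3 : m ^^^ dm = al := cd_inj hx code_al (by rw [eq_allOne_of_wt h0]; exact cd_all.symm)
    rw [h3] at hxx
    exact hxx.symm)
  have w1 : popcount m = 12 := by rw [← wt_cd hm]; omega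
  have w2 : popcount (m ^^^ dm) = 12 := by rw [← wt_cd hx]; omega
  unfold bad
  rw [w1, w2]
  rfl

theorem conj_mem (hB : Bad (mk (signCo0 (cd dm))) B) {T m : ℕ} (hT : ok T = true) (hd : pimg T dm = dm)
    (hm : isCode m = true) (h : mk (signCo0 (cd m)) ∈ B) : mk (signCo0 (cd (pimg T m))) ∈ B := by
  have h1 : permCo0 (el T) * signCo0 (cd dm) = signCo0 (cd dm) * permCo0 (el T) := by
    rw [perm_mul_sign, wordPerm_cd hT code_dm, hd]
  have h2 := hB.norm (mk (permCo0 (el T))) (by rw [← mk_mul, h1, mk_mul]) _ h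
  rw [← mk_inv, ← mk_mul, ← mk_mul, perm_mul_sign_mul_inv, wordPerm_cd hT hm] at h2
  exact h2

theorem triv_of_mem' (hC : ∀ o : golayCode, wt o = 8 → Cen (mk (signCo0 o)))
    (hB : Bad (mk (signCo0 (cd dm))) B) {m : ℕ} (hm : isCode m = true) (h4 : m % 4 = 0)
    (h : mk (signCo0 (cd m)) ∈ B) : triv m = true := by
  by_contra ht
  rw [Bool.not_eq_true] at ht
  have hg := good_of_code hm h4
  have hb := bad_of_mem hC hB hm h ht
  have no1 : ∀ T : ℕ, ok T = true → pimg T dm = dm → g1 (m ^^^ pimg T m) = false := by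
    intro T hT hd
    by_contra hne
    rw [Bool.not_eq_false] at hne
    unfold g1 at hne
    rw [Bool.and_eq_true, Bool.not_eq_true', Bool.not_eq_true'] at hne
    have hm' := isCode_pimg hT hm
    have := bad_of_mem hC hB (isCode_xor hm hm') (sign_xor_mem hm hm' h (conj_mem hB hT hd hm h)) hne.2
    rw [hne.1] at this
    exact absurd this (by simp)
  have hm0 : Nat.beq m 0 = false := by
    rw [← Bool.not_eq_true, Nat.beq_eq]
    intro h0
    have : triv m = true := triv_iff.2 (Or.inl h0)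
    rw [ht] at this
    exact absurd this (by simp)
  unfold good at hg
  rw [hm0, hb, no1 T1 okT1.1 okT1.2, no1 T2 okT2.1 okT2.2] at hg
  exact absurd hg (by simp)

theorem triv_mem (hB : Bad (mk (signCo0 (cd dm))) B) {t : ℕ} (ht : triv t = true) :
    mk (signCo0 (cd t)) ∈ B := by
  have hall : cd al = allOne := cd_all
  rcases triv_iff.1 ht with rfl | rfl | rfl | rfl
  · rw [cd_zero, signCo0_zero]; exact B.one_mem
  · exact hB.mem
  · rw [hall, (mk_eq_one _).2 (Or.inr rfl)]; exact B.one_mem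
  · rw [cd_xor code_al code_dm, hall, add_comm, mk_add_allOne]; exact hB.mem

theorem triv_add : ∀ a ∈ [0, dm, al, al ^^^ dm], ∀ b ∈ [0, dm, al, al ^^^ dm], triv (a ^^^ b) = true := by
  decide +kernel

theorem triv_of_mem (hC : ∀ o : golayCode, wt o = 8 → Cen (mk (signCo0 o)))
    (hB : Bad (mk (signCo0 (cd dm))) B) {m : ℕ} (hm : isCode m = true) (h : mk (signCo0 (cd m)) ∈ B) :
    triv m = true := by
  obtain ⟨t, ht, htc, h4⟩ := exists_rep m
  have h1 := triv_of_mem' hC hB (isCode_xor hm htc) h4 (sign_xor_mem hm htc h (triv_mem hB ht))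
  have h2 := triv_add (m ^^^ t) (by
    simp only [List.mem_cons, List.not_mem_nil, or_false]
    exact triv_iff.1 h1) t (by
    simp only [List.mem_cons, List.not_mem_nil, or_false]
    exact triv_iff.1 ht)
  rwa [Nat.xor_assoc, Nat.xor_self, Nat.xor_zero] at h2

/-! ### Separation of the points -/

def tb (k i : ℕ) : Bool := (basisMask k).testBit i

/-- some basis word has odd intersection with `a, b, c, d` -/
def odd4 (a b c d : ℕ) : Bool := (List.range 12).any fun k => ((tb k a ^^ tb k b) ^^ (tb k c ^^ tb k d))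

theorem sep_one' : (List.range 24).all (fun x => Nat.beq x 1 || (List.range 24).any fun y =>
    dm.testBit y && (List.range 24).all fun z => odd4 y z 1 x) = true := by decide +kernel

theorem sep_zero' : (List.range 24).all (fun x => Nat.beq x 0 || (List.range 24).any fun y =>
    !dm.testBit y && (List.range 24).all fun z => odd4 y z 0 x) = true := by decide +kernel

theorem ne_of_odd4 {a b c d : ℕ} (h : odd4 a b c d = true) : ∃ k < 12, (tb k a ^^ tb k b) ≠ (tb k c ^^ tb k d) := by
  unfold odd4 at h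
  rw [List.any_eq_true] at h
  obtain ⟨k, hk, h⟩ := h
  refine ⟨k, List.mem_range.1 hk, fun he => ?_⟩
  rw [he, Bool.xor_self] at h
  exact absurd h (by simp)

theorem sep_one : ∀ x < 24, x = 1 ∨ ∃ y < 24, dm.testBit y = true ∧
    ∀ z < 24, ∃ k < 12, (tb k y ^^ tb k z) ≠ (tb k 1 ^^ tb k x) := by
  intro x hx
  have h := List.all_eq_true.1 sep_one' x (List.mem_range.2 hx)
  rw [Bool.or_eq_true, Nat.beq_eq] at h
  rcases h with h | h
  · exact Or.inl h
  · right
    rw [List.any_eq_true] at h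
    obtain ⟨y, hy, h⟩ := h
    rw [Bool.and_eq_true] at h
    exact ⟨y, List.mem_range.1 hy, h.1, fun z hz =>
      ne_of_odd4 (List.all_eq_true.1 h.2 z (List.mem_range.2 hz))⟩

theorem sep_zero : ∀ x < 24, x = 0 ∨ ∃ y < 24, dm.testBit y = false ∧
    ∀ z < 24, ∃ k < 12, (tb k y ^^ tb k z) ≠ (tb k 0 ^^ tb k x) := by
  intro x hx
  have h := List.all_eq_true.1 sep_zero' x (List.mem_range.2 hx)
  rw [Bool.or_eq_true, Nat.beq_eq] at h
  rcases h with h | h
  · exact Or.inl h
  · right
    rw [List.any_eq_true] at h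
    obtain ⟨y, hy, h⟩ := h
    rw [Bool.and_eq_true, Bool.not_eq_true'] at h
    exact ⟨y, List.mem_range.1 hy, h.1, fun z hz =>
      ne_of_odd4 (List.all_eq_true.1 h.2 z (List.mem_range.2 hz))⟩

theorem sep_inj : ∀ x < 24, ∀ y < 24, x = y ∨ ∃ k < 12, tb k x ≠ tb k y := by decide +kernel

theorem triv_const : ∀ f ∈ [0, dm, al, al ^^^ dm], ∀ i < 24, ∀ j < 24, dm.testBit i = dm.testBit j →
    f.testBit i = f.testBit j := by decide +kernel

theorem okB : ∀ k < 12, isCode (basisMask k) = true := by decide +kernel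

/-- A map of the points compatible with the code modulo the trivial words is the identity. -/
theorem eq_id (F : ℕ → ℕ) (hF : ∀ i < 24, F i < 24)
    (h : ∀ k < 12, ∀ i < 24, ∀ j < 24, dm.testBit i = dm.testBit j →
      (tb k i ^^ tb k (F i)) = (tb k j ^^ tb k (F j))) : ∀ i < 24, F i = i := by
  have h1 : F 1 = 1 := by
    rcases sep_one (F 1) (hF 1 (by norm_num)) with h1 | ⟨y, hy, hdy, hz⟩
    · exact h1
    · exfalso
      obtain ⟨k, hk, hne⟩ := hz (F y) (hF y hy)
      exact hne (h k hk y hy 1 (by norm_num) (by rw [hdy]; decide +kernel))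
  have h0 : F 0 = 0 := by
    rcases sep_zero (F 0) (hF 0 (by norm_num)) with h1 | ⟨y, hy, hdy, hz⟩
    · exact h1
    · exfalso
      obtain ⟨k, hk, hne⟩ := hz (F y) (hF y hy)
      exact hne (h k hk y hy 0 (by norm_num) (by rw [hdy]; decide +kernel))
  intro i hi
  rcases sep_inj (F i) (hF i hi) i hi with h2 | ⟨k, hk, hne⟩
  · exact h2
  · exfalso
    apply hne
    cases hd : dm.testBit i
    · have h3 := h k hk i hi 0 (by norm_num) (by rw [hd]; decide +kernel)
      rw [h0, Bool.xor_self] at h3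
      revert h3
      cases tb k i <;> cases tb k (F i) <;> simp
    · have h3 := h k hk i hi 1 (by norm_num) (by rw [hd]; decide +kernel)
      rw [h1, Bool.xor_self] at h3
      revert h3
      cases tb k i <;> cases tb k (F i) <;> simp

/-! ### `B = ⟨w⟩` -/

theorem sign_comm (a b : golayCode) : signCo0 a * signCo0 b = signCo0 b * signCo0 a := by
  rw [← signCo0_add, ← signCo0_add, add_comm]

/-- the monomial form of the elements of `C(w)` -/
theorem exists_form {g : Co0} (h : mk g * mk (signCo0 (cd dm)) = mk (signCo0 (cd dm)) * mk g) :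
    ∃ (c : golayCode) (σ : M24), g = signCo0 c * permCo0 σ := by
  apply exists_sign_perm
  rw [← mk_mul, ← mk_mul, mk_eq] at h
  rcases h with h | h
  · exact mem_N_of_conj_dodecad _ _ wt_dm wt_dm g h
  · refine mem_N_of_conj_dodecad (cd dm) (cd dm + allOne) wt_dm (by have := wt_add_allOne (cd dm); rw [wt_dm] at this; omega) g ?_
    rw [h, signCo0_add, mul_assoc, mul_assoc, sign_allOne_comm]

theorem add_wordPerm_apply (c : golayCode) (σ : M24) (p : GolayPt) :
    ((c + wordPerm σ c : golayCode) : GolayPt → ZMod 2) p =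
      (c : GolayPt → ZMod 2) p + (c : GolayPt → ZMod 2) ((σ : Equiv.Perm GolayPt).symm p) := by
  rw [Submodule.coe_add, Pi.add_apply, wordPerm_apply]

/-- the values of `o + σ o` -/
theorem val_eq {m f : ℕ} (hm : isCode m = true) (hf : isCode f = true) {σ : M24}
    (h : cd f = cd m + wordPerm σ (cd m)) (n : ℕ) (hn : n < 24) :
    f.testBit n = (m.testBit n ^^ m.testBit (idx ((σ : Equiv.Perm GolayPt).symm (pt n)))) := by
  have h6 := add_wordPerm_apply (cd m) σ (pt n)
  rw [← h, coe_cd hf, coe_cd hm, word_apply, word_apply, word_apply, idx_pt hn] at h6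
  revert h6
  generalize f.testBit n = a
  generalize m.testBit n = b
  generalize m.testBit (idx ((σ : Equiv.Perm GolayPt).symm (pt n))) = c
  revert a b c
  decide

/-- the commutator of a sign change with a monomial element -/
theorem comm_mono (o c : golayCode) (σ : M24) :
    signCo0 o * (signCo0 c * permCo0 σ) * (signCo0 o)⁻¹ * (signCo0 c * permCo0 σ)⁻¹ =
      signCo0 (o + wordPerm σ o) := by
  have hi : (signCo0 o)⁻¹ = signCo0 o := inv_eq_of_mul_eq_one_left (signCo0_mul_self o)
  have e1 : permCo0 σ * signCo0 o * (permCo0 σ)⁻¹ = signCo0 (wordPerm σ o) := perm_mul_sign_mul_inv σ o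
  have e2 : ∀ a b p : Co0, a * (b * p) * a⁻¹ * (b * p)⁻¹ = a * b * (p * a⁻¹ * p⁻¹) * b⁻¹ := by
    intro a b p; group
  rw [e2, hi, e1, mul_assoc (signCo0 o), sign_comm c, ← mul_assoc, mul_inv_cancel_right, signCo0_add]

theorem comm_mem (hB : Bad (mk (signCo0 (cd dm))) B) {c : golayCode} {σ : M24}
    (h : mk (signCo0 c * permCo0 σ) ∈ B) (o : golayCode) : mk (signCo0 (o + wordPerm σ o)) ∈ B := by
  have h2 := hB.norm (mk (signCo0 o)) (by rw [← mk_mul, sign_comm, mk_mul]) _ h
  have h3 := mul_mem h2 (inv_mem h)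
  rw [← mk_inv, ← mk_inv, ← mk_mul, ← mk_mul, ← mk_mul, comm_mono] at h3
  exact h3

theorem perm_eq_one (hC : ∀ o : golayCode, wt o = 8 → Cen (mk (signCo0 o)))
    (hB : Bad (mk (signCo0 (cd dm))) B) {c : golayCode} {σ : M24} (h : mk (signCo0 c * permCo0 σ) ∈ B) :
    σ = 1 := by
  have hF : ∀ i < 24, idx ((σ : Equiv.Perm GolayPt).symm (pt i)) = i := by
    apply eq_id (fun i => idx ((σ : Equiv.Perm GolayPt).symm (pt i))) (fun i _ => idx_lt _)
    intro k hk i hi j hj hij
    obtain ⟨f, hf, hfc⟩ := exists_cd (cd (basisMask k) + wordPerm σ (cd (basisMask k)))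
    have h2 := comm_mem hB h (cd (basisMask k))
    rw [← hfc] at h2
    have h4 : f ∈ [0, dm, al, al ^^^ dm] := by
      simp only [List.mem_cons, List.not_mem_nil, or_false]
      exact triv_iff.1 (triv_of_mem hC hB hf h2)
    have h5 := triv_const f h4 i hi j hj hij
    rw [val_eq (okB k hk) hf hfc i hi, val_eq (okB k hk) hf hfc j hj] at h5
    exact h5
  apply Subtype.ext
  apply Equiv.ext
  intro p
  have h2 := hF (idx p) (idx_lt p)
  have h3 : (σ : Equiv.Perm GolayPt).symm p = p := by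
    have h4 : idx ((σ : Equiv.Perm GolayPt).symm (pt (idx p))) = idx p := h2
    rw [pt_idx] at h4
    exact idx_injective h4
  show (σ : Equiv.Perm GolayPt) p = p
  conv_lhs => rw [← h3]
  exact Equiv.apply_symm_apply _ _

theorem mem_cases (hC : ∀ o : golayCode, wt o = 8 → Cen (mk (signCo0 o)))
    (hB : Bad (mk (signCo0 (cd dm))) B) {n : Spor.Co1} (hn : n ∈ B) : n = 1 ∨ n = mk (signCo0 (cd dm)) := by
  obtain ⟨g, rfl⟩ := exists_mk n
  obtain ⟨c, σ, rfl⟩ := exists_form (hB.le _ hn)
  have h1 := perm_eq_one hC hB hn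
  subst h1
  rw [map_one, mul_one] at hn ⊢
  obtain ⟨m, hm, rfl⟩ := exists_cd c
  have h2 := triv_iff.1 (triv_of_mem hC hB hm hn)
  have hall : cd al = allOne := cd_all
  rcases h2 with rfl | rfl | rfl | rfl
  · left
    rw [cd_zero, signCo0_zero]; rfl
  · exact Or.inr rfl
  · left
    rw [hall, mk_eq_one]
    exact Or.inr rfl
  · right
    rw [cd_xor code_al code_dm, hall, add_comm, mk_add_allOne]

theorem not_four {K : Type*} [Group K] {w : K} {B : Subgroup K} (h : ∀ n ∈ B, n = 1 ∨ n = w) :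
    ¬ 4 ∣ Nat.card ↥B := by
  intro h8
  have h2 : (B : Set K) ⊆ {1, w} := fun n hn => h n hn
  have h3 := Set.ncard_le_ncard h2 (Set.toFinite _)
  have h4 : ({1, w} : Set K).ncard ≤ 2 := Set.ncard_insert_le _ _ |>.trans (by rw [Set.ncard_singleton])
  have h5 : (B : Set K).ncard = Nat.card ↥B := rfl
  have h6 : 0 < Nat.card ↥B := by
    have : Finite ↥B := ((Set.toFinite {1, w}).subset h2).to_subtype
    exact Nat.card_pos
  have h7 := Nat.le_of_dvd h6 h8
  omega

theorem not_bad_dm (hC : ∀ o : golayCode, wt o = 8 → Cen (mk (signCo0 o))) (B : Subgroup Spor.Co1) :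
    ¬ Bad (mk (signCo0 (cd dm))) B :=
  fun hB => not_four (fun _ hn => mem_cases hC hB hn) hB.four

/-- **The involutions of type 2C.** -/
theorem not_bad (hC : ∀ o : golayCode, wt o = 8 → Cen (mk (signCo0 o))) {d : golayCode} (hd : wt d = 12)
    (N : Subgroup Spor.Co1) : ¬ Bad (mk (signCo0 d)) N := by
  intro h
  obtain ⟨g, hg⟩ := conj_dodecad wt_dm hd
  have e : mk (signCo0 d) = mk g * mk (signCo0 (cd dm)) * (mk g)⁻¹ := by
    rw [← hg]; rfl
  rw [e] at h
  exact not_bad_dm hC _ (bad_conj h)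

end Cfsg.Agent.KFacts.Co1D4.Dodecad
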