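import Cfsg.Agent.StdG24.Facts6
import Cfsg.Agent.OddHalf.D4.Spor.LargeBase

/-!
# The 2-central involutions of the six-dimensional model of `G₂(4)`

They are the conjugates of `lz` (`conj_z_of_cen`, `cen_lz`).
-/

set_option autoImplicit false

namespace Cfsg.Agent.KFacts.Co1D4.SixCen

open Cfsg.Agent.SporRec
open Cfsg.Agent.StdG24
open Cfsg.Agent.StdG24.Mod6
open Cfsg.Agent.StdG24.Al6
open Cfsg.Agent.StdG24.Inv6
open Cfsg.Agent.OddHalf.D4.Spor (Cen)

theorem finite_L : Finite L := Nat.finite_of_card_ne_zero (by rw [Ord6.card_L]; norm_num)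

theorem finite_Al : Finite Al := Nat.finite_of_card_ne_zero (by rw [card_Al]; norm_num)

/-- the centralizer of `v` has order at most `3840` -/
theorem card_Cv : Nat.card Cv ≤ 3840 := by
  have := finite_Al
  set f : (Fin 4 × Fin 4 × Fin 4) × Al → GL6 := fun p =>
    ev (Cv6.rw3 p.1.1.val p.1.2.1.val p.1.2.2.val) * p.2 with hf
  have h1 : (Cv : Set GL6) ⊆ Set.range f := by
    intro g hg
    obtain ⟨c, hc, s, hs, t, ht, b, hb, h, -⟩ := Cv6.Cv_split hg
    exact ⟨((⟨c, hc⟩, ⟨s, hs⟩, ⟨t, ht⟩), ⟨b, hb⟩), h.symm⟩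
  have h2 : Nat.card Cv ≤ Nat.card (Set.range f) := Nat.card_mono (Set.finite_range f) h1
  have h3 : Nat.card (Set.range f) ≤ Nat.card ((Fin 4 × Fin 4 × Fin 4) × Al) :=
    Nat.card_le_card_of_surjective _ Set.rangeFactorization_surjective
  rw [Nat.card_prod, Nat.card_prod, Nat.card_prod, Nat.card_fin, card_Al] at h3
  omega

/-- `v` is not 2-central -/
theorem not_cen_v : ¬ Cen lv := by
  rintro ⟨S, hS⟩
  have := finite_L
  have : Fact (Nat.Prime 2) := ⟨Nat.prime_two⟩
  have h1 : Nat.card S = 4096 := by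
    rw [Sylow.card_eq_multiplicity]
    have : Nat.card L = 251596800 := Ord6.card_L
    rw [this, show 251596800 = 2 ^ 12 * 61425 by norm_num]
    rw [Nat.factorization_mul (by norm_num) (by norm_num), Nat.Prime.factorization_pow Nat.prime_two]
    rw [Finsupp.add_apply, Finsupp.single_eq_same, Nat.factorization_eq_zero_of_not_dvd (by norm_num)]
    norm_num
  have h2 : ((S : Subgroup L).map L.subtype) ≤ Cv := by
    rintro _ ⟨s, hs, rfl⟩
    exact ⟨s.2, congrArg Subtype.val (hS s hs)⟩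
  have h3 : Nat.card ((S : Subgroup L).map L.subtype) = 4096 := by
    rw [← h1]
    exact Subgroup.card_map_of_injective L.subtype_injective
  have : Finite Cv := Nat.finite_of_card_ne_zero (fun h0 => by
    have hL := finite_L
    have : Finite Cv := Finite.of_injective (fun c : Cv => (⟨c.1, c.2.1⟩ : L)) (fun a b h => by
      apply Subtype.ext
      exact congrArg (fun y : L => (y : GL6)) h)
    exact Nat.card_pos.ne' h0)
  have h4 := Subgroup.card_le_of_le h2
  have h5 := card_Cv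
  omega

/-- (F4) in `L` -/
theorem conj_cases {t : L} (htt : t * t = 1) (ht1 : t ≠ 1) :
    (∃ g : L, g * t * g⁻¹ = lz) ∨ ∃ g : L, g * t * g⁻¹ = lv := by
  rcases Cls6.conj_z_or_v t.2 (congrArg Subtype.val htt) (fun h => ht1 (Subtype.ext h)) with
    ⟨g, hg, h⟩ | ⟨g, hg, h⟩
  · exact Or.inl ⟨⟨g, hg⟩, Subtype.ext h⟩
  · exact Or.inr ⟨⟨g, hg⟩, Subtype.ext h⟩

theorem conj_z_of_cen {t : L} (htt : t * t = 1) (ht1 : t ≠ 1) (h : Cen t) : ∃ g : L, g * t * g⁻¹ = lz := by
  rcases conj_cases htt ht1 with h1 | ⟨g, h1⟩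
  · exact h1
  · exact absurd (h1 ▸ OddHalf.D4.Spor.LargeBase.cen_conj g h) not_cen_v

/-- a finite group of order divisible by four has a 2-central involution -/
theorem exists_cen {X : Type*} [Group X] [Finite X] (h4 : 4 ∣ Nat.card X) :
    ∃ t : X, t * t = 1 ∧ t ≠ 1 ∧ Cen t := by
  have : Fact (Nat.Prime 2) := ⟨Nat.prime_two⟩
  obtain ⟨S⟩ : Nonempty (Sylow 2 X) := inferInstance
  have h5 : 4 ∣ Nat.card S := Sylow.pow_dvd_card_of_pow_dvd_card (p := 2) (n := 2) S h4
  obtain ⟨t, htS, htt, ht1, h⟩ := OddHalf.D4.Spor.exists_central_invol S.2 h5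
  exact ⟨t, htt, ht1, S, h⟩

theorem cen_lz : Cen lz := by
  have := finite_L
  obtain ⟨t, htt, ht1, h⟩ := exists_cen (X := L) (by rw [Ord6.card_L]; norm_num)
  obtain ⟨g, hg⟩ := conj_z_of_cen htt ht1 h
  rw [← hg]
  exact OddHalf.D4.Spor.LargeBase.cen_conj g h

end Cfsg.Agent.KFacts.Co1D4.SixCen
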