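import Cfsg.Agent.KFacts.Co1D4.Letters
import Cfsg.Agent.KFacts.Co1D4.SixCen
import Cfsg.Agent.SporRec.G24Upper

/-!
# The subgroup `L ≅ G₂(4)` of `Co₁` generated by the six letters
-/

set_option autoImplicit false

namespace Cfsg.Agent.KFacts.Co1D4.GTwo

open Cfsg Cfsg.Agent.SporRec Cfsg.Agent.StdG24
open Cfsg.Agent.OddHalf.D4.Spor (Cen)
open scoped commutatorElement

theorem prod_pair {A B : Type*} [Group A] [Group B] (a : Fin 6 → A) (b : Fin 6 → B) (w : List (Fin 6)) :
    (w.map fun i => (a i, b i)).prod = ((w.map a).prod, (w.map b).prod) := by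
  induction w with
  | nil => rfl
  | cons i w ih => rw [List.map_cons, List.prod_cons, ih]; rfl

/-- Six elements satisfying the relators, not all trivial: an isomorphism respecting the letters. -/
theorem exists_equiv {G : Type*} [Group G] (x : Fin 6 → G)
    (hx : ∀ w ∈ G24Rel.R6, (w.map x).prod = 1) (K : Subgroup G)
    (hK : Subgroup.closure (Set.range x) = K) {i₀ : Fin 6} (h₀ : x i₀ ≠ 1) :
    ∃ φ : Mod6.L ≃* K, ∀ i, ((φ ⟨Ord6.B i, Ord6.B_mem i⟩ : K) : G) = x i := by
  classical
  obtain ⟨hfin, hcard⟩ := G24Upper.card_closure_le (fun i => (Ord6.B i, x i)) (fun w hw => by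
    rw [prod_pair, Ord6.B_rel w hw, hx w hw]; rfl)
  set D := Subgroup.closure (Set.range fun i => (Ord6.B i, x i)) with hD
  have e1 : D.map (MonoidHom.fst _ G) = Mod6.L := by
    rw [hD, MonoidHom.map_closure, ← Set.range_comp, ← Ord6.closure_B]; rfl
  have e2 : D.map (MonoidHom.snd _ G) = K := by
    rw [hD, MonoidHom.map_closure, ← hK, ← Set.range_comp]; rfl
  let f1 : D →* Mod6.L := ((MonoidHom.fst _ G).comp D.subtype).codRestrict Mod6.L
    (fun d => by rw [← e1]; exact ⟨d, d.2, rfl⟩)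
  let f2 : D →* K := ((MonoidHom.snd _ G).comp D.subtype).codRestrict K
    (fun d => by rw [← e2]; exact ⟨d, d.2, rfl⟩)
  have s1 : Function.Surjective f1 := by
    rintro ⟨g, hg⟩
    rw [← e1] at hg
    obtain ⟨d, hd, rfl⟩ := hg
    exact ⟨⟨d, hd⟩, rfl⟩
  have s2 : Function.Surjective f2 := by
    rintro ⟨g, hg⟩
    rw [← e2] at hg
    obtain ⟨d, hd, rfl⟩ := hg
    exact ⟨⟨d, hd⟩, rfl⟩
  have b1 : Function.Bijective f1 := by
    refine (Nat.bijective_iff_surjective_and_card f1).2 ⟨s1, le_antisymm ?_ ?_⟩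
    · rw [Ord6.card_L]; exact hcard
    · have := SixCen.finite_L
      exact Nat.card_le_card_of_surjective f1 s1
  have eD := MulEquiv.ofBijective f1 b1
  have hsD : IsSimpleGroup D := by
    have := Facts6.simple_L
    exact MulEquiv.isSimpleGroup eD
  have b2 : Function.Bijective f2 := by
    refine ⟨?_, s2⟩
    rw [← MonoidHom.ker_eq_bot_iff]
    rcases (inferInstance : f2.ker.Normal).eq_bot_or_eq_top with h | h
    · exact h
    · exfalso
      apply h₀
      have h1 : (⟨(Ord6.B i₀, x i₀), Subgroup.subset_closure ⟨i₀, rfl⟩⟩ : D) ∈ f2.ker := by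
        rw [h]; exact Subgroup.mem_top _
      exact congrArg (fun y : K => (y : G)) h1
  refine ⟨(MulEquiv.ofBijective f1 b1).symm.trans (MulEquiv.ofBijective f2 b2), fun i => ?_⟩
  set d : D := ⟨(Ord6.B i, x i), Subgroup.subset_closure ⟨i, rfl⟩⟩ with hd
  have h1 : (MulEquiv.ofBijective f1 b1) d = ⟨Ord6.B i, Ord6.B_mem i⟩ := rfl
  have h2 : (MulEquiv.ofBijective f1 b1).symm ⟨Ord6.B i, Ord6.B_mem i⟩ = d := by
    rw [← h1, MulEquiv.symm_apply_apply]
  rw [MulEquiv.trans_apply, h2]
  rfl

/-- The subgroup `G₂(4)`. -/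
def L : Subgroup Spor.Co1 := Subgroup.closure (Set.range Letters.x)

theorem exists_iso : ∃ φ : Mod6.L ≃* L, ∀ i, ((φ ⟨Ord6.B i, Ord6.B_mem i⟩ : L) : Spor.Co1) = Letters.x i :=
  exists_equiv Letters.x Letters.x_rel L rfl Letters.x0_ne_one

/-- The isomorphism. -/
noncomputable def φ : Mod6.L ≃* L := exists_iso.choose

theorem φ_B (i : Fin 6) : ((φ ⟨Ord6.B i, Ord6.B_mem i⟩ : L) : Spor.Co1) = Letters.x i := exists_iso.choose_spec i

theorem card_L : Nat.card L = 251596800 := by
  rw [← Nat.card_congr φ.toEquiv, Ord6.card_L]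

theorem simple_L : IsSimpleGroup L := by
  have := Facts6.simple_L
  exact MulEquiv.isSimpleGroup φ.symm

theorem perf_L : ⁅L, L⁆ = L := by
  have h1 : commutator L = ⊤ := by
    have h := Facts6.perf_L
    have h2 := congrArg (Subgroup.map φ.toMonoidHom) h
    rw [commutator_def, Subgroup.map_commutator, ← MonoidHom.range_eq_map, MonoidHom.range_eq_top.mpr φ.surjective] at h2
    exact h2
  have h3 := congrArg (Subgroup.map L.subtype) h1
  rw [commutator_def, Subgroup.map_commutator, ← MonoidHom.range_eq_map, Subgroup.range_subtype] at h3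
  exact h3

/-- elements commuting with the letters commute with `L` -/
theorem comm_of {g : Spor.Co1} (h : ∀ i, Letters.x i * g = g * Letters.x i) : ∀ l ∈ L, l * g = g * l := by
  have h1 : L ≤ Subgroup.centralizer ({g} : Set Spor.Co1) := by
    unfold L
    rw [Subgroup.closure_le]
    rintro _ ⟨i, rfl⟩
    exact Subgroup.mem_centralizer_singleton_iff.mpr (h i)
  exact fun l hl => Subgroup.mem_centralizer_singleton_iff.mp (h1 hl)

theorem zw_eq : Letters.zw = (G24Match.wx 6 0).map Fin.val := by decide +kernel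

/-- the image of `z` is the element given by the word `zw` -/
theorem φ_lz : ((φ Inv6.lz : L) : Spor.Co1) = Letters.val Letters.zw := by
  have h1 : Inv6.lz = ((G24Match.wx 6 0).map fun i => (⟨Ord6.B i, Ord6.B_mem i⟩ : Mod6.L)).prod := by
    apply Subtype.ext
    have h2 : ((((G24Match.wx 6 0).map fun i => (⟨Ord6.B i, Ord6.B_mem i⟩ : Mod6.L)).prod : Mod6.L) : Mod6.GL6) =
        ((G24Match.wx 6 0).map Ord6.B).prod := by
      generalize G24Match.wx 6 0 = w
      induction w with
      | nil => rfl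
      | cons i w ih => rw [List.map_cons, List.prod_cons, List.map_cons, List.prod_cons, ← ih]; rfl
    rw [h2, ← Ord6.gx_eq]
    rfl
  rw [h1, zw_eq]
  unfold Letters.val
  rw [List.map_map]
  generalize G24Match.wx 6 0 = w
  induction w with
  | nil => simp
  | cons i w ih =>
    rw [List.map_cons, List.prod_cons, List.map_cons, List.prod_cons, ← ih, map_mul]
    show (φ ⟨Ord6.B i, Ord6.B_mem i⟩ : Spor.Co1) * _ = _
    rw [φ_B]; rfl

end Cfsg.Agent.KFacts.Co1D4.GTwo
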