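import Cfsg.Agent.KFacts.Co1D4.TwoB
import Cfsg.Agent.KFacts.Co1D4.DodBal
import Cfsg.Agent.KFacts.Co1D4.Cent
import Cfsg.Agent.KFacts.Co1D4.DodBad
import Cfsg.Agent.ConwayFacts.AutCo1

/-!
# The fact sheet of `Co₁` for the case D4
-/

set_option autoImplicit false
open Cfsg

namespace Cfsg.Agent.KFacts.Co1D4.Main

open Cfsg.Agent.SporadicA.Co0Mono
open Cfsg.Agent.SporadicA.Co1Simple (allOne)
open Cfsg.Agent.CoOneType
open Cfsg.Agent.CoOneType.SignFacts (wt)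
open Cfsg.Agent.CoOneType.ClosingFacts (mk)
open Cfsg.Agent.CoOneType.InvMain (b0)
open Cfsg.Agent.OddHalf.D4.Spor Cfsg.Agent.OddHalf.D4.Spor.LargeBase

theorem inn (α : MulAut Spor.Co1) : Inn α := by
  obtain ⟨s, hs⟩ := Cfsg.Agent.ConwayFacts.AutCo1.inner α
  exact ⟨s, MulEquiv.ext fun g => by rw [MulAut.conj_apply, hs]⟩

theorem setup : Abs.Setup TwoB.w TwoB.v TwoB.r TwoB.z GTwo.L := by
  have hcard : Nat.card (Subgroup.centralizer ({TwoB.w} : Set Spor.Co1)) ≤ 8 * Nat.card GTwo.L := by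
    rw [GTwo.card_L]
    exact Cent.card_cent1 TwoB.k_sq
  exact TwoB.setup hcard (Cent.cent_eq TwoB.k_sq TwoB.ku GTwo.perf_L TwoB.Lw TwoB.Lv TwoB.center_L hcard)

theorem tab (w : Spor.Co1) (N : Subgroup Spor.Co1) (h : Bad w N) (V : Subgroup Spor.Co1) (hV : V ≤ N)
    (_ : IsPGroup 2 ↥V) (_ : w ∈ V) (_ : ∀ v ∈ V, v * w = w * v)
    (hmax : ∀ P : Subgroup Spor.Co1, IsPGroup 2 ↥P → V ≤ P → P ≤ N → P = V) (_ : 4 ∣ Nat.card ↥V) :
    ∃ L : Subgroup Spor.Co1, VFacts V L := by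
  rcases Base.cases w h.sq h.ne with ⟨g, c, hc, rfl⟩ | ⟨g, c, hc, rfl⟩ | ⟨g, rfl⟩
  · exact absurd (cen_conj g (Base.cen_octad hc)) (h.non _ h.mem h.sq h.ne)
  · exact absurd (bad_conj h) (DodBad.not_bad (fun _ ho => Base.cen_octad ho) hc _)
  · obtain ⟨g', hg'⟩ := TwoB.conj_w g
    rw [hg'] at h
    have hN := setup.eq_Z (bad_conj h)
    have hNV : N = setup.Z.map (MulAut.conj g' : Spor.Co1 ≃* Spor.Co1).toMonoidHom := by
      rw [← hN, Subgroup.map_map]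
      have : ((MulAut.conj g' : Spor.Co1 ≃* Spor.Co1).toMonoidHom.comp
          (MulAut.conj g'⁻¹ : Spor.Co1 ≃* Spor.Co1).toMonoidHom) = MonoidHom.id Spor.Co1 := by
        refine MonoidHom.ext fun x => ?_
        show g' * (g'⁻¹ * x * g'⁻¹⁻¹) * g'⁻¹ = x
        group
      rw [this, Subgroup.map_id]
    have hN2 : IsPGroup 2 ↥N := by
      rw [hNV]
      have h4 : IsPGroup 2 ↥setup.Z := IsPGroup.of_card (n := 2) (by rw [setup.card_Z]; norm_num)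
      exact h4.map _
    have hVN : N = V := hmax N hN2 hV le_rfl
    rw [← hVN, hNV]
    exact ⟨_, setup.vfacts.map (MulAut.conj g')⟩

theorem bal (a : Spor.Co1) (ha : a * a = 1) (ha1 : a ≠ 1) (I : Subgroup Spor.Co1) (h1 : ∀ i ∈ I, i * a = a * i)
    (h2 : ∀ c : Spor.Co1, c * a = a * c → ∀ i ∈ I, c * i * c⁻¹ ∈ I) (ho : Odd (Nat.card ↥I)) : I = ⊥ := by
  rcases Base.cases a ha ha1 with ⟨g, c, hc, rfl⟩ | ⟨g, c, hc, rfl⟩ | ⟨g, rfl⟩
  · exact odd_eq_bot_of_conj (Base.odd_eq_bot_large (Co1.InCo1.large hc)) g I h1 h2 ho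
  · exact odd_eq_bot_of_conj (DodBal.bal hc) g I h1 h2 ho
  · obtain ⟨g', hg'⟩ := TwoB.conj_w g
    rw [hg'] at h1 h2
    exact odd_eq_bot_of_conj (fun I h3 h4 h5 => setup.bal h3 h4 h5) g' I h1 h2 ho

/-- **The fact sheet of `Co₁`.** -/
theorem sheet : Sheet Spor.Co1 := by
  obtain ⟨o, ho⟩ := Cfsg.Agent.CoOneType.ClosingCo1.exists_octad
  exact
    { out := out_of_inn inn
      schreier := schreier_of_inn inn
      sylAut := sylAut_of_inn inn
      z1 := fun S a ha _ ha1 hac b hb _ hb1 hbc => z1_of_one (Base.syl ho) S a ha ha1 hac b hb hb1 hbc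
      bal := bal
      out2 := out2_of_inn inn
      tab := tab_of_elt tab }

end Cfsg.Agent.KFacts.Co1D4.Main
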