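import Cfsg.Agent.KFacts.M24Two.Orders
import Cfsg.Agent.MonsterU.Lam2
import Cfsg.Agent.KFacts.Co1.OctGen

/-!
# `|C_{Co0}(b₀)| ≤ 2012774400` for `b₀² = -1` (helper927, text of helper249)

`C = C(b₀)` acts on `Λ / 2Λ`; `ker (1 + b₀) = im (1 + b₀)` has order 4096 and contains the orbit of the class of `8 e_∞`,
whose stabiliser is monomial of order at most `64 · 7680`.
-/

set_option autoImplicit false

namespace Cfsg.Agent.KFacts.Co1D4.Order

open Cfsg Cfsg.Agent.SporadicA.GolayBase Cfsg.Agent.SporadicA.GolayPerm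
open Cfsg.Agent.SporadicStructure.M24El Cfsg.Agent.SporadicA.Co0Mono
open Cfsg.Agent.SporadicStructure.Co0Base (e8 e8_coe co0_smul_add)
open Cfsg.Agent.SporadicA.Co1Simple (exists_sign_perm N mem_N_of_e8 mem_crossSet_of_congr crossSet allOne e8_sub
  sqNorm_e8)
open Cfsg.Agent.Co2Type.Mono (exists_cd cd cd_inj)
open Cfsg.Agent.CoOneType.InvMain (b0 b0m sp_mul sp_inj isCode_b0m b0_mul_self)
open Cfsg.Agent.J4.M24InvolData (P2)
open Cfsg.Agent.MonsterU.Lam2 hiding b0
open scoped Pointwise

/-! ### the map `1 + b₀` -/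

/-- `x ↦ x + b₀ x` -/
noncomputable def T : L2 →+ L2 := AddMonoidHom.id L2 + act b0

theorem T_apply (x : L2) : T x = x + b0 • x := rfl

theorem allOne_smul (v : leechLattice) : signCo0 allOne • v = -v := by
  apply Subtype.ext
  rw [signCo0_smul]
  funext i
  rw [signMap_apply]
  show sgn _ * _ = -((v : GolayPt → ℤ) i)
  have : (allOne : GolayPt → ZMod 2) i = 1 := rfl
  rw [this, sgn_one]
  ring

theorem b0_b0 (v : leechLattice) : b0 • b0 • v = -v := by
  rw [← mul_smul, b0_mul_self, allOne_smul]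

theorem b0_b0_cl (x : L2) : b0 • b0 • x = x := by
  obtain ⟨v, rfl⟩ := cl_surjective x
  rw [smul_cl, smul_cl, b0_b0, cl_neg]

theorem ker_le_range : T.ker ≤ T.range := by
  intro x hx
  obtain ⟨v, rfl⟩ := cl_surjective x
  have h1 : cl v + b0 • cl v = 0 := hx
  rw [smul_cl, ← map_add, cl_eq_zero] at h1
  obtain ⟨u, hu⟩ := h1
  -- v = u - b₀ u
  have h2 : (2 : ℕ) • v = 2 • (u - b0 • u) := by
    have h3 : b0 • (v + b0 • v) = 2 • (b0 • u) := by rw [hu, smul_two]
    rw [co0_smul_add, b0_b0] at h3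
    rw [_root_.smul_sub, ← hu, ← h3, two_smul]
    abel
  have h4 : v = u - b0 • u := by
    apply Subtype.ext
    funext i
    have h5 := congrArg (fun w : leechLattice => (w : GolayPt → ℤ) i) h2
    have e : ∀ w : leechLattice, ((2 • w : leechLattice) : GolayPt → ℤ) i = 2 * (w : GolayPt → ℤ) i := by
      intro w
      rw [two_smul]
      show (w : GolayPt → ℤ) i + (w : GolayPt → ℤ) i = _
      ring
    simp only [e] at h5
    omega
  refine ⟨cl u, ?_⟩
  rw [T_apply, h4, cl_sub, smul_cl]

theorem card_ker : Nat.card T.ker ≤ 4096 := by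
  have hfin : Finite L2 := Nat.finite_of_card_ne_zero (by rw [card_L2]; norm_num)
  have h1 : Nat.card T.ker * Nat.card T.range = 2 ^ 24 := by
    rw [← card_L2, ← T.ker.card_mul_index, AddSubgroup.index_ker]
  have h2 : Nat.card T.ker ≤ Nat.card T.range := AddSubgroup.card_le_of_le ker_le_range
  by_contra h
  have h3 : 4097 * 4097 ≤ Nat.card T.ker * Nat.card T.range := Nat.mul_le_mul (by omega) (by omega)
  rw [h1] at h3
  norm_num at h3

/-! ### the class of `8 e_∞` -/

/-- the class -/
noncomputable def x0 : L2 := cl (e8 none)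

theorem cl_e8 (i : GolayPt) : cl (e8 i) = x0 := by
  obtain ⟨u, hu⟩ := e8_sub i none
  rw [hu, map_add, cl_two, add_zero]
  rfl

theorem e8_cl_of_mem {g : Co0} (hg : g ∈ N) : g • x0 = x0 := by
  obtain ⟨c, σ, rfl⟩ := exists_sign_perm hg
  have h1 : (signCo0 c * permCo0 σ) • e8 none = e8 ((σ : Equiv.Perm GolayPt) none) ∨
      (signCo0 c * permCo0 σ) • e8 none = -e8 ((σ : Equiv.Perm GolayPt) none) := by
    rw [mul_smul, Cfsg.Agent.SporadicA.Co1Simple.perm_smul_e8]
    exact Cfsg.Agent.SporadicA.Co1Simple.sgn_smul_e8 _ _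
  unfold x0
  rw [smul_cl]
  rcases h1 with h | h
  · rw [h]; exact cl_e8 _
  · rw [h, cl_neg]; exact cl_e8 _

theorem x0_ne : x0 ≠ 0 := by
  intro h
  obtain ⟨u, hu⟩ := cl_eq_zero.1 h
  have hc : ∀ i, (u : GolayPt → ℤ) i = if i = none then 4 else 0 := by
    intro i
    have h1 := congrArg (fun w : leechLattice => (w : GolayPt → ℤ) i) hu
    have e : ((2 • u : leechLattice) : GolayPt → ℤ) i = 2 * (u : GolayPt → ℤ) i := by
      rw [two_smul]
      show (u : GolayPt → ℤ) i + (u : GolayPt → ℤ) i = _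
      ring
    simp only [e, e8_coe, Pi.single_apply] at h1
    split_ifs at h1 ⊢ <;> omega
  have hn : sqNorm (u : GolayPt → ℤ) = 16 := by
    unfold sqNorm
    simp [hc]
  have h0 : (u : GolayPt → ℤ) ≠ 0 := by
    intro h0
    rw [h0] at hn
    simp [sqNorm] at hn
  have := Cfsg.Agent.SporadicA.LeechMin.le_sqNorm u.2 h0
  omega

theorem b0_mem : b0 ∈ N :=
  N.mul_mem (Cfsg.Agent.SporadicA.Co1Simple.sign_mem_N _) (Cfsg.Agent.SporadicA.Co1Simple.perm_mem_N _)

/-- the centraliser -/
abbrev C : Subgroup Co0 := Subgroup.centralizer ({b0} : Set Co0)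

theorem orbit_le : (MulAction.orbit C x0).ncard ≤ 4095 := by
  have hfin : Finite L2 := Nat.finite_of_card_ne_zero (by rw [card_L2]; norm_num)
  have h1 : MulAction.orbit C x0 ⊆ (T.ker : Set L2) \ {0} := by
    rintro _ ⟨⟨g, hg⟩, rfl⟩
    have hg' : g * b0 = b0 * g := Subgroup.mem_centralizer_singleton_iff.1 hg
    constructor
    · show T (g • x0) = 0
      rw [T_apply, ← mul_smul, ← hg', mul_smul, e8_cl_of_mem b0_mem, Cfsg.Agent.MonsterU.Lam2.add_self]
    · intro h0
      have h0' : g • x0 = 0 := h0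
      apply x0_ne
      have h2 := congrArg (fun y => g⁻¹ • y) h0'
      simpa using h2
  have h2 : ((T.ker : Set L2) \ {0}).ncard = Nat.card T.ker - 1 := by
    rw [Set.ncard_sdiff_singleton_of_mem (by exact T.ker.zero_mem)]
    rfl
  have h3 := Set.ncard_le_ncard h1 (Set.toFinite _)
  rw [h2] at h3
  have := card_ker
  omega

/-! ### the stabiliser -/

theorem stab_mem {g : Co0} (h : g • x0 = x0) : g ∈ N := by
  have h1 : cl (g • e8 none) = cl (e8 none) := h
  obtain ⟨u, hu⟩ := cl_eq.1 h1
  have hu' : g • e8 none = e8 none + (2 : ℕ) • u := by rw [← hu]; abel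
  apply mem_N_of_e8
  intro j
  obtain ⟨w, hw⟩ := e8_sub j none
  refine mem_crossSet_of_congr _ (u + g • w) none ?_ ?_
  · rw [sqNorm_smul]; exact sqNorm_e8 j
  · rw [hw, co0_smul_add, smul_two, hu', _root_.smul_add]
    abel

/-- the invariant words -/
def fixL : List ℕ := (List.range 4096).filter fun i => Nat.beq (pimg P2 (enc i)) (enc i)

theorem length_fixL : fixL.length = 64 := by decide +kernel

theorem ok_P2 : ok P2 = true := Cfsg.Agent.J4.M24Invol.ok_P2

theorem card_fix : Nat.card {d : golayCode // wordPerm (el P2) d = d} ≤ 64 := by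
  classical
  have h : ∀ d : golayCode, wordPerm (el P2) d = d → d ∈ (fixL.map fun i => cd (enc i)).toFinset := by
    intro d hd
    obtain ⟨m, hm, rfl⟩ := exists_cd d
    rw [Cfsg.Agent.Co2Type.Mono.wordPerm_cd ok_P2 hm] at hd
    have h1 := cd_inj (Cfsg.Agent.Co2Type.Mono.isCode_pimg ok_P2 hm) hm hd
    obtain ⟨i, hi, rfl⟩ := isCode_iff_exists.1 hm
    rw [List.mem_toFinset, List.mem_map]
    refine ⟨i, List.mem_filter.2 ⟨List.mem_range.2 hi, ?_⟩, rfl⟩
    exact Nat.beq_eq.mpr h1
  have h2 : Nat.card {d : golayCode // wordPerm (el P2) d = d} ≤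
      Nat.card {d : golayCode // d ∈ (fixL.map fun i => cd (enc i)).toFinset} :=
    Nat.card_le_card_of_injective (fun d => ⟨d.1, h d.1 d.2⟩) fun a b hab =>
      Subtype.ext (congrArg (fun z : {d : golayCode // d ∈ (fixL.map fun i => cd (enc i)).toFinset} => z.1) hab)
  refine h2.trans ?_
  rw [Nat.card_eq_fintype_card, Fintype.card_coe]
  refine (List.toFinset_card_le _).trans ?_
  rw [List.length_map, length_fixL]

theorem comm_sp {c : golayCode} {σ : M24} (h : signCo0 c * permCo0 σ * b0 = b0 * (signCo0 c * permCo0 σ)) :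
    σ * el P2 = el P2 * σ ∧ c + wordPerm σ (cd b0m) = cd b0m + wordPerm (el P2) c := by
  unfold b0 at h
  rw [sp_mul, sp_mul] at h
  have h1 := sp_inj h
  exact ⟨h1.2, h1.1⟩

theorem card_stab : Nat.card (MulAction.stabilizer C x0) ≤ 7680 * 64 := by
  classical
  have hM : Finite M24 := inferInstance
  have hco : Finite Co0 := Cfsg.Agent.CoOneType.FrameFix.finite_co0
  have hG : Finite golayCode := inferInstance
  have hex : ∀ s : MulAction.stabilizer C x0, ∃ (c : golayCode) (σ : M24), ((s : C) : Co0) = signCo0 c * permCo0 σ :=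
    fun s => exists_sign_perm (stab_mem s.2)
  choose cs σs hs using hex
  have hcomm : ∀ s, σs s * el P2 = el P2 * σs s ∧ cs s + wordPerm (σs s) (cd b0m) =
      cd b0m + wordPerm (el P2) (cs s) := fun s => comm_sp (by
    rw [← hs]
    exact Subgroup.mem_centralizer_singleton_iff.1 (s : C).2)
  let r : M24 → golayCode := fun σ => if h : ∃ s, σs s = σ then cs h.choose else 0
  have hr : ∀ s, ∃ s', σs s' = σs s ∧ r (σs s) = cs s' := by
    intro s
    have h : ∃ s', σs s' = σs s := ⟨s, rfl⟩
    exact ⟨h.choose, h.choose_spec, dif_pos h⟩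
  have hfix : ∀ s, wordPerm (el P2) (cs s + r (σs s)) = cs s + r (σs s) := by
    intro s
    obtain ⟨s', h1, h2⟩ := hr s
    rw [h2]
    have e1 := (hcomm s).2
    have e2 := (hcomm s').2
    rw [h1] at e2
    have e3 : wordPerm (el P2) (cs s + cs s') = wordPerm (el P2) (cs s) + wordPerm (el P2) (cs s') := rfl
    have two : ∀ d : golayCode, d + d = 0 := fun d => by
      apply Subtype.ext
      funext i
      exact CharTwo.add_self_eq_zero _
    have e4 : wordPerm (el P2) (cs s) = cd b0m + (cs s + wordPerm (σs s) (cd b0m)) := by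
      rw [e1, ← add_assoc, two, zero_add]
    have e5 : wordPerm (el P2) (cs s') = cd b0m + (cs s' + wordPerm (σs s) (cd b0m)) := by
      rw [e2, ← add_assoc, two, zero_add]
    rw [e3, e4, e5]
    calc cd b0m + (cs s + wordPerm (σs s) (cd b0m)) + (cd b0m + (cs s' + wordPerm (σs s) (cd b0m)))
        = (cd b0m + cd b0m) + (wordPerm (σs s) (cd b0m) + wordPerm (σs s) (cd b0m)) + (cs s + cs s') := by abel
      _ = cs s + cs s' := by rw [two, two, zero_add, zero_add]
  let F : MulAction.stabilizer C x0 → (Subgroup.centralizer ({el P2} : Set M24)) ×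
      {d : golayCode // wordPerm (el P2) d = d} := fun s =>
    (⟨σs s, Subgroup.mem_centralizer_singleton_iff.2 (hcomm s).1⟩, ⟨cs s + r (σs s), hfix s⟩)
  have hF : Function.Injective F := by
    intro s t hst
    have h1 : σs s = σs t := congrArg (fun p => (p.1 : M24)) hst
    have h2 : cs s + r (σs s) = cs t + r (σs t) := congrArg (fun p => (p.2 : golayCode)) hst
    rw [h1] at h2
    have h3 : cs s = cs t := add_right_cancel h2
    apply Subtype.ext
    apply Subtype.ext
    rw [hs s, hs t, h1, h3]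
  have h1 := Nat.card_le_card_of_injective F hF
  rw [Nat.card_prod] at h1
  refine h1.trans (Nat.mul_le_mul ?_ card_fix)
  exact (Cfsg.Agent.KFacts.M24Two.Orders.card_centralizer_w).le

/-- **`|C(b₀)| ≤ 2012774400`** -/
theorem card_cent : Nat.card (Subgroup.centralizer ({b0} : Set Co0)) ≤ 2012774400 := by
  have h1 := (MulAction.stabilizer C x0).card_mul_index
  rw [MulAction.index_stabilizer] at h1
  rw [← h1]
  calc Nat.card (MulAction.stabilizer C x0) * (MulAction.orbit C x0).ncard ≤ (7680 * 64) * 4095 :=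
        Nat.mul_le_mul card_stab orbit_le
    _ = 2012774400 := by norm_num

end Cfsg.Agent.KFacts.Co1D4.Order
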