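import Cfsg.Agent.KFacts.Co1D4.Abs
import Cfsg.Agent.KFacts.Co1D4.GTwo
import Cfsg.Agent.KFacts.Co1D4.Base

/-!
# The centralizer of the involution `w` of class 2B of `Co₁`
-/

set_option autoImplicit false
set_option Elab.async false
open Cfsg

namespace Cfsg.Agent.KFacts.Co1D4.TwoB

open Cfsg.Agent.SporadicA.Co0Mono
open Cfsg.Agent.SporadicA.Co1Simple (allOne)
open Cfsg.Agent.CoOneType Cfsg.Agent.CoOneType.CoEval
open Cfsg.Agent.CoOneType.ClosingFacts (mk mk_mul mk_inv exists_mk mk_eq_one mk_eq)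
open Cfsg.Agent.CoOneType.InvMain (b0 conj_b0_of_sq_neg)
open Cfsg.Agent.StdG24
open Cfsg.Agent.OddHalf.D4.Spor (Cen)
open scoped commutatorElement

/-- the lift of `w` -/
noncomputable abbrev k : Co0 := Letters.e 6
/-- the lift of `v2` -/
noncomputable abbrev u : Co0 := Letters.e 12
/-- the lift of `z` -/
noncomputable abbrev t : Co0 := (Letters.zw.map Letters.e).prod

theorem negCo0_eq : SporadicA.Co0Basic.negCo0 = signCo0 allOne := ClosingFacts.neg_eq

theorem k_sq : k * k = signCo0 allOne := by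
  rw [← negCo0_eq]
  have h := eq_neg_of_negB Letters.hM (w := [6, 6]) (by decide +kernel)
  simpa using h

theorem u_sq : u * u = signCo0 allOne := by
  rw [← negCo0_eq]
  have h := eq_neg_of_negB Letters.hM (w := [12, 12]) (by decide +kernel)
  simpa using h

theorem ku_sq : k * u * (k * u) = signCo0 allOne := by
  rw [← negCo0_eq]
  have h := eq_neg_of_negB Letters.hM (w := [6, 12, 6, 12]) (by decide +kernel)
  simpa [mul_assoc] using h

theorem ku : k * u = signCo0 allOne * (u * k) := by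
  set J := signCo0 allOne with hJ
  have hJJ : J * J = 1 := signCo0_mul_self _
  have hc : ∀ g : Co0, g * J = J * g := SignFacts.sign_allOne_comm
  have h1 : k * u * (k * u) = J := ku_sq
  have h2 : u * k * (k * u) = 1 := by
    calc u * k * (k * u) = u * (k * k) * u := by group
      _ = u * J * u := by rw [k_sq]
      _ = J * (u * u) := by rw [hc]; group
      _ = 1 := by rw [u_sq, hJJ]
  have h3 : k * u = J * (k * u)⁻¹ := eq_mul_inv_of_mul_eq h1
  have h4 : u * k = (k * u)⁻¹ := eq_inv_of_mul_eq_one_left h2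
  rw [h4, ← h3]

theorem t_comm : t * k = k * t := by
  have h : ∀ i ∈ Letters.zw, Letters.e i * k = k * Letters.e i := by
    have h0 : ∀ i ∈ Letters.zw, i < 6 := by decide
    intro i hi
    exact (Letters.e_comm ⟨i, h0 i hi⟩).1
  unfold t
  generalize Letters.zw = l at h
  induction l with
  | nil => simp
  | cons i l ih =>
    rw [List.map_cons, List.prod_cons, mul_assoc, ih fun j hj => h j (List.mem_cons_of_mem _ hj), ← mul_assoc,
      h i List.mem_cons_self, mul_assoc]

theorem t_sq : t * t = 1 := Letters.zw_sq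

/-- The elements in `Co1`. -/
noncomputable abbrev w : Spor.Co1 := mk k
noncomputable abbrev v : Spor.Co1 := mk u
noncomputable abbrev r : Spor.Co1 := mk (Letters.e 13)
noncomputable abbrev z : Spor.Co1 := mk t

theorem mk_allOne : mk (signCo0 allOne) = 1 := (mk_eq_one _).2 (Or.inr rfl)

theorem ww : w * w = 1 := by rw [← mk_mul, k_sq, mk_allOne]
theorem vv : v * v = 1 := by rw [← mk_mul, u_sq, mk_allOne]

theorem wv : w * v = v * w := by
  rw [← mk_mul, ku, mk_mul, mk_allOne, one_mul, mk_mul]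

theorem w_eq : w = Model.w := rfl
theorem v_eq : v = CoSide.v2 := rfl
theorem r_eq : r = CoSide.rho := rfl

theorem v_ne : v ≠ 1 := CoSide.v2_ne_one
theorem vw : v ≠ w := CoSide.v2_ne_w

theorem w_ne : w ≠ 1 := by
  intro h
  have h1 : CoSide.rho * Model.w * CoSide.rho⁻¹ = CoSide.v2 := CoSide.rho_conj
  have h2 : Model.w = 1 := h
  rw [h2] at h1
  exact v_ne (by rw [v_eq, ← h1]; group)

theorem rw_ : r * w * r⁻¹ = v := CoSide.rho_conj

theorem rv : r * v * r⁻¹ = w * v := by
  have h : CoSide.rho * CoSide.v2 = Model.w * CoSide.v2 * CoSide.rho := CoSide.rho_v2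
  show CoSide.rho * CoSide.v2 * CoSide.rho⁻¹ = Model.w * CoSide.v2
  rw [h]; group

theorem Lw : ∀ l ∈ GTwo.L, l * w = w * l := GTwo.comm_of fun i => by
  show mk (Letters.e i.val) * mk k = mk k * mk (Letters.e i.val)
  rw [← mk_mul, (Letters.e_comm i).1, mk_mul]

theorem Lv : ∀ l ∈ GTwo.L, l * v = v * l := GTwo.comm_of fun i => by
  show mk (Letters.e i.val) * mk u = mk u * mk (Letters.e i.val)
  rw [← mk_mul, (Letters.e_comm i).2.1, mk_mul]

theorem Lr : ∀ l ∈ GTwo.L, l * r = r * l := GTwo.comm_of fun i => by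
  show mk (Letters.e i.val) * mk (Letters.e 13) = mk (Letters.e 13) * mk (Letters.e i.val)
  rw [← mk_mul, (Letters.e_comm i).2.2, mk_mul]

theorem z_eq : z = ((GTwo.φ Inv6.lz : GTwo.L) : Spor.Co1) := by
  rw [GTwo.φ_lz]
  exact (map_prod_pr Letters.e Letters.zw).symm

theorem zL : z ∈ GTwo.L := by rw [z_eq]; exact (GTwo.φ Inv6.lz).2

theorem z_eq' : (⟨z, zL⟩ : GTwo.L) = GTwo.φ Inv6.lz := Subtype.ext z_eq

theorem zz : z * z = 1 := by rw [← mk_mul, t_sq]; rfl

theorem z_ne : z ≠ 1 := by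
  have h := Letters.zw_ne
  unfold Letters.val at h
  rw [map_prod_pr] at h
  exact h

theorem zc : Cen z := Base.cen_of_trace t_sq Letters.tr8_zw

theorem cen_map {A B : Type*} [Group A] [Group B] (e : A ≃* B) {a : A} (h : Cen a) : Cen (e a) :=
  OddHalf.D4.Spor.Cen.map e h

theorem zcL : Cen (⟨z, zL⟩ : GTwo.L) := by
  rw [z_eq']
  exact cen_map GTwo.φ SixCen.cen_lz

theorem zconj (s : GTwo.L) (hs : s * s = 1) (hs1 : s ≠ 1) (hc : Cen s) :
    ∃ g : GTwo.L, g * s * g⁻¹ = ⟨z, zL⟩ := by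
  obtain ⟨g, hg⟩ := SixCen.conj_z_of_cen (t := GTwo.φ.symm s) (by rw [← map_mul, hs, map_one])
    (by
      intro h
      apply hs1
      rw [← GTwo.φ.apply_symm_apply s, h, map_one])
    (cen_map GTwo.φ.symm hc)
  refine ⟨GTwo.φ g, ?_⟩
  rw [z_eq', ← hg, map_mul, map_mul, map_inv, GTwo.φ.apply_symm_apply]

theorem conj_mul_of {k t : Co0} (hk : k * k = signCo0 allOne) (ht : t * t = 1) (htk : t * k = k * t) :
    ∃ g : Spor.Co1, g * mk k * g⁻¹ = mk k * mk t := by
  have h1 : (k * t) * (k * t) = signCo0 allOne := by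
    calc k * t * (k * t) = k * (t * k) * t := by group
      _ = k * k * (t * t) := by rw [htk]; group
      _ = signCo0 allOne := by rw [ht, mul_one, hk]
  obtain ⟨g, hg⟩ := conj_b0_of_sq_neg k hk
  obtain ⟨g', hg'⟩ := conj_b0_of_sq_neg (k * t) h1
  refine ⟨mk (g'⁻¹ * g), ?_⟩
  have h2 : g'⁻¹ * g * k * (g'⁻¹ * g)⁻¹ = k * t := by
    calc g'⁻¹ * g * k * (g'⁻¹ * g)⁻¹ = g'⁻¹ * (g * k * g⁻¹) * g' := by group
      _ = g'⁻¹ * (g' * (k * t) * g'⁻¹) * g' := by rw [hg, hg']
      _ = k * t := by group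
  exact congrArg mk h2

theorem wz : ∃ g : Spor.Co1, g * w * g⁻¹ = w * z := conj_mul_of k_sq t_sq t_comm

/-- The set-up, from the two facts on the centralizer. -/
theorem setup (hcard : Nat.card (Subgroup.centralizer ({w} : Set Spor.Co1)) ≤ 8 * Nat.card GTwo.L)
    (hcent : ∀ g, g * w = w * g → (∀ l ∈ GTwo.L, g * l = l * g) → g = 1 ∨ g = w ∨ g = v ∨ g = w * v) :
    Abs.Setup w v r z GTwo.L where
  ww := ww
  vv := vv
  w1 := w_ne
  v1 := v_ne
  vw := vw
  comm := wv
  rw := rw_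
  rv := rv
  Lw := Lw
  Lv := Lv
  Lr := Lr
  simple := GTwo.simple_L
  perf := GTwo.perf_L
  card := hcard
  zL := zL
  zz := zz
  z1 := z_ne
  zc := zc
  zcL := zcL
  zconj := zconj
  wz := wz
  cent := hcent

/-- the centre of `L` is trivial -/
theorem center_L (g : Spor.Co1) (hg : g ∈ GTwo.L) (h : ∀ l ∈ GTwo.L, g * l = l * g) : g = 1 := by
  have := GTwo.simple_L
  have hn : (Subgroup.center GTwo.L).Normal := inferInstance
  rcases hn.eq_bot_or_eq_top with h1 | h1
  · have : (⟨g, hg⟩ : GTwo.L) ∈ Subgroup.center GTwo.L := Subgroup.mem_center_iff.mpr fun l => Subtype.ext (h l l.2).symm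
    rw [h1, Subgroup.mem_bot] at this
    exact congrArg Subtype.val this
  · exfalso
    have h2 : ∀ a b : GTwo.L, a * b = b * a := fun a b => by
      have : b ∈ Subgroup.center GTwo.L := by rw [h1]; exact Subgroup.mem_top b
      exact Subgroup.mem_center_iff.mp this a
    have h3 : ⁅GTwo.L, GTwo.L⁆ = ⊥ := by
      rw [Subgroup.commutator_eq_bot_iff_le_centralizer]
      intro a ha
      rw [Subgroup.mem_centralizer_iff]
      intro b hb
      exact congrArg Subtype.val (h2 ⟨b, hb⟩ ⟨a, ha⟩)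
    rw [GTwo.perf_L] at h3
    apply z_ne
    have := zL
    rw [h3, Subgroup.mem_bot] at this
    exact this

/-- every involution of class 2B is conjugate to `w` -/
theorem conj_w (g : Spor.Co1) : ∃ g' : Spor.Co1, g * mk b0 * g⁻¹ = g' * w * g'⁻¹ := by
  obtain ⟨h, hh⟩ := conj_b0_of_sq_neg k k_sq
  refine ⟨g * mk h, ?_⟩
  have h1 : mk b0 = mk h * w * (mk h)⁻¹ := by rw [← hh]; rfl
  rw [h1]; group

end Cfsg.Agent.KFacts.Co1D4.TwoB
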